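import Groth.Agent.Approx60.ChowMain
import Groth.Agent.RB70.AmpleVanish
import Groth.Agent.EGA73.VeryAmplePnAmple
import Groth.Agent.Amp73.QA
import Groth.Agent.Amp73.Local
import Groth.Agent.Cyc90.P1Graph
import Groth.Agent.VarGal.LocalDim
import Groth.Agent.QC70.DevissageAux
import Groth.Agent.Var76.FibreBound
import Groth.Prelude.Def_LCI2

/-!
# Chow models of varieties
-/

set_option autoImplicit false
set_option backward.isDefEq.respectTransparency.types false
set_option maxSynthPendingDepth 6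
set_option maxHeartbeats 1000000

universe u

open CategoryTheory CategoryTheory.Limits AlgebraicGeometry TopologicalSpace Opposite

noncomputable section

namespace Groth.Agent.Licht93.ChowModel

attribute [local instance] MvPolynomial.gradedAlgebra

variable {k : Type u} [Field k]

/-- A Chow model of an integral `k`-scheme. -/
structure Model {U : Scheme.{u}} (f : U ⟶ Spec (CommRingCat.of k)) [IsIntegral U] (d : ℕ) where
  n : ℕ
  U' : Scheme.{u}
  π : U' ⟶ U
  X : Scheme.{u}
  i : X ⟶ CohB1.ProjSpace n k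
  j : U' ⟶ X
  W : U.Opens
  L : U'.Modules
  integralX : IsIntegral X
  integralU' : IsIntegral U'
  closedI : IsClosedImmersion i
  openJ : IsOpenImmersion j
  fac : j ≫ i ≫ CohB1.ProjSpace.toSpec n k = π ≫ f
  proper : IsProper π
  surj : Surjective π
  nonempty : (W : Set U).Nonempty
  iso : IsIso (π ∣_ W)
  dimX : topologicalKrullDim X = d
  tdeg_lt : ∀ x : U', π x ∉ W → WC97.tdegN (π ≫ f) x < d
  ample : RelAmple.IsRelAmple π L

theorem dim_opensRange {A B : Scheme.{u}} (j : A ⟶ B) [IsOpenImmersion j] :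
    topologicalKrullDim ↥(Scheme.Hom.opensRange j) = topologicalKrullDim A :=
  (IsHomeomorph.topologicalKrullDim_eq _
    (j.isOpenEmbedding.isEmbedding.toHomeomorph).isHomeomorph).symm

theorem exists_model {U : Scheme.{u}} (f : U ⟶ Spec (CommRingCat.of k)) [IsIntegral U] [IsSeparated f]
    [LocallyOfFiniteType f] [QuasiCompact f] (d : ℕ) (hd : topologicalKrullDim U = d) :
    Nonempty (Model f d) := by
  classical
  haveI : IsLocallyNoetherian U := LocallyOfFiniteType.isLocallyNoetherian f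
  obtain ⟨n, U₀, π₀, j₀, hj₀, hjf, hπ₀, hs₀, W, hWd, hWiso⟩ := Approx60.Chow.chow_noetherian f
  have hWne : (W : Set U).Nonempty := hWd.nonempty
  have hηW : genericPoint U ∈ W :=
    ((genericPoint_spec U).mem_open_set_iff W.2).2 (by simpa using hWne)
  obtain ⟨η', hη'⟩ := π₀.surjective (genericPoint U)
  obtain ⟨Z, z, hz, hZ, hzr, hzη⟩ := QC70.exists_integral_closed η'
  haveI := hz; haveI := hZ; haveI := hπ₀; haveI := hWiso; haveI := hj₀
  let π := z ≫ π₀
  haveI : IsProper π := inferInstanceAs (IsProper (z ≫ π₀))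
  have hsurj : Surjective π := ⟨Set.range_eq_univ.1 (by
    have hcl : IsClosed (Set.range π) := π.isClosedMap.isClosed_range
    refine Set.eq_univ_of_forall fun y => ?_
    have hy : y ∈ closure ({genericPoint U} : Set U) := by rw [(genericPoint_spec U)]; trivial
    exact closure_minimal (Set.singleton_subset_iff.2 (show genericPoint U ∈ Set.range π from ⟨genericPoint Z, by
      show π₀ (z (genericPoint Z)) = _
      rw [hzη, hη']⟩)) hcl hy)⟩
  haveI : IsIso (π ∣_ W) := by
    haveI : IsReduced (π₀ ⁻¹ᵁ W).toScheme := isReduced_of_isOpenImmersion (π₀ ∣_ W)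
    haveI : IsClosedImmersion (z ∣_ (π₀ ⁻¹ᵁ W)) := IsZariskiLocalAtTarget.restrict hz _
    haveI : Surjective (z ∣_ (π₀ ⁻¹ᵁ W)) := ⟨fun x => by
      have hsp : genericPoint U ⤳ π₀ x.1 := (genericPoint_spec U).specializes trivial
      let e := (π₀ ∣_ W).homeomorph
      have h1 : (⟨genericPoint U, hηW⟩ : W) ⤳ ⟨π₀ x.1, x.2⟩ := (subtype_specializes_iff _ _).2 hsp
      have hη'W : η' ∈ π₀ ⁻¹ᵁ W := show π₀ η' ∈ W by rw [hη']; exact hηW
      have ha : e ⟨η', hη'W⟩ = (⟨genericPoint U, hηW⟩ : W) :=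
        Subtype.ext ((morphismRestrict_base_coe π₀ W _).trans hη')
      have hb : e x = (⟨π₀ x.1, x.2⟩ : W) := Subtype.ext (morphismRestrict_base_coe π₀ W _)
      have h2 : (⟨η', hη'W⟩ : ↥(π₀ ⁻¹ᵁ W)) ⤳ x := by
        have := h1.map e.symm.continuous
        rwa [← ha, ← hb, e.symm_apply_apply, e.symm_apply_apply] at this
      obtain ⟨w, hw⟩ : x.1 ∈ Set.range z := by
        rw [hzr]; exact ((subtype_specializes_iff _ _).1 h2).mem_closure
      exact ⟨⟨w, show z w ∈ π₀ ⁻¹ᵁ W by rw [hw]; exact x.2⟩, Subtype.ext ((morphismRestrict_base_coe z _ _).trans hw)⟩⟩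
    have hzi := isIso_of_isClosedImmersion_of_surjective (z ∣_ (π₀ ⁻¹ᵁ W))
    rw [show π = z ≫ π₀ from rfl, morphismRestrict_comp]
    exact IsIso.comp_isIso' hzi hWiso
  let g : Z ⟶ Spec (CommRingCat.of k) := π ≫ f
  haveI : LocallyOfFiniteType g := inferInstanceAs (LocallyOfFiniteType (π ≫ f))
  haveI : QuasiCompact g := inferInstanceAs (QuasiCompact (π ≫ f))
  haveI : CompactSpace Z := QuasiCompact.compactSpace_of_compactSpace g
  obtain ⟨e, he, -⟩ := RB70.exists_projSpaceOver_iso k n
  let jP : Z ⟶ CohB1.ProjSpace n k := z ≫ j₀ ≫ e.hom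
  haveI : IsImmersion jP := inferInstanceAs (IsImmersion (z ≫ j₀ ≫ e.hom))
  have hfac : jP ≫ CohB1.ProjSpace.toSpec n k = g := by
    show (z ≫ j₀ ≫ e.hom) ≫ _ = (z ≫ π₀) ≫ f
    rw [Category.assoc, Category.assoc, Category.assoc, he, hjf]
  haveI : QuasiCompact jP := by
    haveI : QuasiCompact (jP ≫ CohB1.ProjSpace.toSpec n k) := by rw [hfac]; infer_instance
    haveI : QuasiSeparated (CohB1.ProjSpace.toSpec n k) := by
      haveI := Approx60.Segre.isProper_toBase n (Spec (CommRingCat.of k))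
      rw [show CohB1.ProjSpace.toSpec n k = e.inv ≫ CohB1.ProjSpaceOver.toBase n _ by
        rw [← he, e.inv_hom_id_assoc]]
      infer_instance
    exact QuasiCompact.of_comp jP (CohB1.ProjSpace.toSpec n k)
  have hdim' : topologicalKrullDim Z = d := by
    have hne : ((π ⁻¹ᵁ W : Z.Opens) : Set Z).Nonempty := by
      obtain ⟨a, ha⟩ := hsurj.surj (genericPoint U)
      exact ⟨a, show π a ∈ W by rw [ha]; exact hηW⟩
    rw [← VarGal.topologicalKrullDim_open_eq g (π ⁻¹ᵁ W) hne,
      IsHomeomorph.topologicalKrullDim_eq _ (π ∣_ W).homeomorph.isHomeomorph,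
      ← hd]
    exact VarGal.topologicalKrullDim_open_eq f W hWne
  obtain ⟨hint, -⟩ := Cyc90.P1L.isIntegral_image jP
  haveI := hint
  haveI : IsProper (CohB1.ProjSpace.toSpec n k) := by
    haveI := Approx60.Segre.isProper_toBase n (Spec (CommRingCat.of k))
    rw [show CohB1.ProjSpace.toSpec n k = e.inv ≫ CohB1.ProjSpaceOver.toBase n _ by
      rw [← he, e.inv_hom_id_assoc]]
    infer_instance
  have hdimX : topologicalKrullDim jP.image = d := by
    haveI : LocallyOfFiniteType (jP.imageι ≫ CohB1.ProjSpace.toSpec n k) := inferInstance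
    rw [← hdim', ← dim_opensRange jP.toImage]
    exact (VarGal.topologicalKrullDim_open_eq (jP.imageι ≫ CohB1.ProjSpace.toSpec n k) jP.toImage.opensRange
      ⟨jP.toImage (genericPoint Z), ⟨genericPoint Z, rfl⟩⟩).symm
  let L : Z.Modules := (Scheme.Modules.pullback jP).obj (Twist.twistProjSpace n k 1)
  have hL : CohB1.IsAmple L :=
    Amp73.isAmple_pullback_of_isEmbedding jP jP.isEmbedding
      (EGA73.VeryAmplePnAmple.isAmple_twistProjSpace k n)
  refine ⟨⟨n, Z, π, jP.image, jP.imageι, jP.toImage, W, L, hint, hZ, inferInstance, inferInstance, ?_, inferInstance,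
    hsurj, hWne, inferInstance, hdimX, fun x hx => ?_, ⟨inferInstance, fun V => ?_⟩⟩⟩
  · rw [Scheme.Hom.toImage_imageι_assoc, hfac]
  · have hne : genericPoint Z ≠ x := fun h => hx (by
      rw [← h]; show π₀ (z (genericPoint Z)) ∈ W
      rw [hzη, hη']; exact hηW)
    have h1 := Var76.FibreBound.tdegN_lt g ((genericPoint_spec Z).specializes trivial) hne
    have h2 := (WC97.dim_eq g).1
    rw [hdim'] at h2
    have h3 : d = WC97.tdegN g (genericPoint Z) := by exact_mod_cast h2
    show WC97.tdegN g x < d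
    omega
  · haveI : CompactSpace (π ⁻¹ᵁ V.1).toScheme :=
      isCompact_iff_compactSpace.1 (π.isCompact_preimage V.2.isCompact)
    exact Amp73.isAmple_restrict hL _

end Groth.Agent.Licht93.ChowModel
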