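import Groth.Agent.Licht93.TopCech
import Groth.Agent.LC17.ConePS
import Groth.Agent.LC17.HLVT
import Groth.Agent.EGA4H10.CMCompletion
import Mathlib.RingTheory.MvPolynomial.Ideal

/-!
# The local ring at the vertex of an integral cone has a domain as completion
-/

set_option autoImplicit false

universe u

open MvPolynomial Groth.Agent.LC17

namespace Groth.Agent.Licht93.ConeLocal

attribute [local instance] MvPolynomial.gradedAlgebra

/-- A ring with multiplicative order has no zero divisors in its completion. -/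
theorem noZeroDivisors_adicCompletion {R : Type u} [CommRing R] (I : Ideal R)
    (h : ∀ (i j : ℕ) (a b : R), a ∈ I ^ i → a ∉ I ^ (i + 1) → b ∈ I ^ j → b ∉ I ^ (j + 1) →
      a * b ∉ I ^ (i + j + 1)) : NoZeroDivisors (AdicCompletion I R) := by
  classical
  have hmem : ∀ (n : ℕ) (r : R), r ∈ (I ^ n • ⊤ : Submodule R R) ↔ r ∈ I ^ n := fun n r => by
    rw [smul_eq_mul, Ideal.mul_top]
  have ord : ∀ x : AdicCompletion I R, x ≠ 0 →
      ∃ i : ℕ, ∀ N, i + 1 ≤ N → ∀ a : R, x.val N = Submodule.mkQ _ a → a ∈ I ^ i ∧ a ∉ I ^ (i + 1) := by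
    intro x hx
    have hex : ∃ n, x.val n ≠ 0 := by
      by_contra hc
      push Not at hc
      exact hx (AdicCompletion.ext hc)
    have h0 : Nat.find hex ≠ 0 := fun e => Nat.find_spec hex (by
      rw [e]
      obtain ⟨r, hr⟩ := Submodule.mkQ_surjective _ (x.val 0)
      rw [← hr, Submodule.mkQ_apply, Submodule.Quotient.mk_eq_zero, hmem]
      simp)
    obtain ⟨i, hi⟩ := Nat.exists_eq_succ_of_ne_zero h0
    refine ⟨i, fun N hN a ha => ⟨?_, fun hc => ?_⟩⟩
    · have h1 : x.val i = 0 := not_not.1 (Nat.find_min hex (by omega))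
      rw [← x.property (show i ≤ N by omega), ha] at h1
      rw [← hmem]
      exact (Submodule.Quotient.mk_eq_zero _).1 h1
    · apply Nat.find_spec hex
      rw [hi, ← x.property (show i + 1 ≤ N by omega), ha]
      exact (Submodule.Quotient.mk_eq_zero _).2 ((hmem _ _).2 hc)
  refine ⟨fun {x y} hxy => ?_⟩
  by_contra hc
  push Not at hc
  obtain ⟨i, hi⟩ := ord x hc.1
  obtain ⟨j, hj⟩ := ord y hc.2
  let N := i + j + 1
  obtain ⟨a, ha⟩ := Submodule.mkQ_surjective _ (x.val N)
  obtain ⟨b, hb⟩ := Submodule.mkQ_surjective _ (y.val N)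
  obtain ⟨ha1, ha2⟩ := hi N (by omega) a ha.symm
  obtain ⟨hb1, hb2⟩ := hj N (by omega) b hb.symm
  refine h i j a b ha1 ha2 hb1 hb2 ?_
  have h1 : (x * y).val N = x.val N * y.val N := rfl
  rw [hxy, ← ha, ← hb] at h1
  rw [← hmem]
  exact (Submodule.Quotient.mk_eq_zero _).1 h1.symm

variable {K : Type u} [Field K] {m : ℕ}

local notation "S" => MvPolynomial (Fin m) K
local notation "J" => MvPolynomial.idealOfVars (Fin m) K
local notation "𝒜" => MvPolynomial.homogeneousSubmodule (Fin m) K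

theorem origin_eq : Cone.origin K m = J := by
  refine le_antisymm (Cone.origin_le fun i => Ideal.subset_span ⟨i, rfl⟩) ?_
  rw [MvPolynomial.idealOfVars, Ideal.span_le]
  rintro _ ⟨i, rfl⟩
  exact RingHom.mem_ker.2 (constantCoeff_X (σ := Fin m) (R := K) i)

theorem hc_mem_J {N i : ℕ} (hN : i ≤ N) (f : S) : homogeneousComponent N f ∈ J ^ i := by
  rw [mem_pow_idealOfVars_iff']
  intro x hx
  rw [coeff_homogeneousComponent, if_neg]
  omega

theorem hc_eq_zero {N i : ℕ} (hN : N < i) {f : S} (hf : f ∈ J ^ i) : homogeneousComponent N f = 0 := by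
  rw [mem_pow_idealOfVars_iff'] at hf
  refine MvPolynomial.ext _ _ fun x => ?_
  rw [coeff_homogeneousComponent, coeff_zero]
  split_ifs with h
  · exact hf x (by omega)
  · rfl

/-- membership in `p + J^i` by components -/
theorem mem_sup_pow_iff {p : Ideal S} (hp : p.IsHomogeneous 𝒜) (i : ℕ) (f : S) :
    f ∈ p ⊔ J ^ i ↔ ∀ N < i, homogeneousComponent N f ∈ p := by
  constructor
  · intro hf N hN
    obtain ⟨a, ha, b, hb, rfl⟩ := Submodule.mem_sup.1 hf
    rw [map_add, hc_eq_zero hN hb, add_zero]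
    exact homogeneousComponent_mem_of_mem hp ha N
  · intro h
    rw [← sum_homogeneousComponent f]
    refine Ideal.sum_mem _ fun N _ => ?_
    by_cases hN : N < i
    · exact Ideal.mem_sup_left (h N hN)
    · exact Ideal.mem_sup_right (hc_mem_J (by omega) f)

/-- the order is multiplicative modulo a homogeneous prime -/
theorem mul_not_mem {p : Ideal S} (hp : p.IsPrime) (hh : p.IsHomogeneous 𝒜) {i j : ℕ} {f g : S}
    (hf : f ∈ p ⊔ J ^ i) (hf' : f ∉ p ⊔ J ^ (i + 1)) (hg : g ∈ p ⊔ J ^ j)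
    (hg' : g ∉ p ⊔ J ^ (j + 1)) : f * g ∉ p ⊔ J ^ (i + j + 1) := by
  obtain ⟨a, ha, f', hf'', rfl⟩ := Submodule.mem_sup.1 hf
  obtain ⟨b, hb, g', hg'', rfl⟩ := Submodule.mem_sup.1 hg
  intro hfg
  have h1 : f' * g' ∈ p ⊔ J ^ (i + j + 1) := by
    have : f' * g' = (a + f') * (b + g') - (a * (b + g') + f' * b) := by ring
    rw [this]
    exact sub_mem hfg (Ideal.mem_sup_left (add_mem (Ideal.mul_mem_right _ _ ha) (Ideal.mul_mem_left _ _ hb)))
  have h2 := (mem_sup_pow_iff hh _ _).1 h1 (i + j) (by omega)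
  have h3 : homogeneousComponent (i + j) (f' * g') =
      homogeneousComponent i f' * homogeneousComponent j g' := by
    rw [← Cone.comp_coe, ← Cone.comp_coe, ← Cone.comp_coe, MvPolynomial.coe_mul]
    exact Cone.comp_mul_of_lower (fun k hk => by rw [Cone.comp_coe, hc_eq_zero hk hf''])
      (fun k hk => by rw [Cone.comp_coe, hc_eq_zero hk hg''])
  rw [h3] at h2
  rcases hp.mem_or_mem h2 with h | h
  · refine hf' ((mem_sup_pow_iff hh _ _).2 fun N hN => ?_)
    rw [map_add]
    refine add_mem (homogeneousComponent_mem_of_mem hh ha N) ?_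
    rcases Nat.lt_succ_iff_lt_or_eq.1 hN with hlt | rfl
    · rw [hc_eq_zero hlt hf'']; exact zero_mem _
    · exact h
  · refine hg' ((mem_sup_pow_iff hh _ _).2 fun N hN => ?_)
    rw [map_add]
    refine add_mem (homogeneousComponent_mem_of_mem hh hb N) ?_
    rcases Nat.lt_succ_iff_lt_or_eq.1 hN with hlt | rfl
    · rw [hc_eq_zero hlt hg'']; exact zero_mem _
    · exact h

theorem hc_zero_not_mem {p : Ideal S} (hp : p.IsPrime) (hh : p.IsHomogeneous 𝒜) {t : S}
    (ht : t ∉ Cone.origin K m) : t ∉ p ⊔ J ^ 1 := fun h => ht (by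
  rw [pow_one, ← origin_eq] at h
  exact (sup_le (Cone.le_origin hh hp.ne_top) le_rfl) h)

/-- saturation of `p + J^i` at the vertex -/
theorem mem_of_mul_mem {p : Ideal S} (hp : p.IsPrime) (hh : p.IsHomogeneous 𝒜) {t f : S}
    (ht : t ∉ Cone.origin K m) : ∀ i : ℕ, t * f ∈ p ⊔ J ^ i → f ∈ p ⊔ J ^ i
  | 0, _ => Ideal.mem_sup_right (by simp)
  | i + 1, h => by
    have h1 := mem_of_mul_mem hp hh ht i ((sup_le_sup le_rfl (Ideal.pow_le_pow_right (I := J) (show i ≤ i + 1 by omega)) : p ⊔ J ^ (i + 1) ≤ p ⊔ J ^ i) h)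
    by_contra hc
    have := mul_not_mem hp hh (i := 0) (j := i) (Ideal.mem_sup_right (by simp))
      (hc_zero_not_mem hp hh ht) h1 hc
    rw [Nat.zero_add] at this
    exact this h

variable (p : Ideal (MvPolynomial (Fin m) K))

/-- the vertex of the cone `V(p)` -/
noncomputable abbrev vertex : Ideal (S ⧸ p) := Ideal.map (Ideal.Quotient.mk p) (Cone.origin K m)

theorem comap_vertex (hp : p.IsPrime) (hh : p.IsHomogeneous 𝒜) :
    (vertex p).comap (Ideal.Quotient.mk p) = Cone.origin K m := by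
  rw [Ideal.comap_map_of_surjective _ Ideal.Quotient.mk_surjective, ← RingHom.ker_eq_comap_bot,
    Ideal.mk_ker, sup_eq_left]
  exact Cone.le_origin hh hp.ne_top

theorem isMaximal_vertex (hp : p.IsPrime) (hh : p.IsHomogeneous 𝒜) : (vertex p).IsMaximal := by
  refine (Ideal.map_eq_top_or_isMaximal_of_surjective _ Ideal.Quotient.mk_surjective
    (Cone.origin_isMaximal (K := K) (m := m))).resolve_left fun e => ?_
  have := comap_vertex p hp hh
  rw [vertex, e, Ideal.comap_top] at this
  exact (Cone.origin_isMaximal (K := K) (m := m)).ne_top this.symm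

theorem comap_vertex_pow (i : ℕ) (f : S) :
    Ideal.Quotient.mk p f ∈ vertex p ^ i ↔ f ∈ p ⊔ J ^ i := by
  rw [vertex, ← Ideal.map_pow, ← Ideal.mem_comap,
    Ideal.comap_map_of_surjective _ Ideal.Quotient.mk_surjective, ← RingHom.ker_eq_comap_bot,
    Ideal.mk_ker, origin_eq, sup_comm]

variable (hp : p.IsPrime) (hh : p.IsHomogeneous (MvPolynomial.homogeneousSubmodule (Fin m) K))

include hp hh in
/-- the completion of the local ring at the vertex is a domain -/
theorem isDomain_completion (R : Type u) [CommRing R] [IsLocalRing R] [Algebra (S ⧸ p) R]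
    [hV : (vertex p).IsPrime] [IsLocalization.AtPrime R (vertex p)] :
    IsDomain (AdicCompletion (IsLocalRing.maximalIdeal R) R) := by
  classical
  haveI := isMaximal_vertex p hp hh
  set mR := IsLocalRing.maximalIdeal R with hmR
  have hm : mR = (vertex p).map (algebraMap (S ⧸ p) R) := (IsLocalization.AtPrime.map_eq_maximalIdeal (vertex p) R).symm
  have key : ∀ (a u : R) (f : S), IsUnit u → a * u = algebraMap (S ⧸ p) R (Ideal.Quotient.mk p f) →
      ∀ i, a ∈ mR ^ i ↔ f ∈ p ⊔ J ^ i := by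
    intro a u f hu hau i
    rw [← Ideal.mul_unit_mem_iff_mem _ hu, hau, hm, ← Ideal.map_pow]
    constructor
    · intro h
      obtain ⟨⟨⟨y, hy⟩, s'⟩, e⟩ := (IsLocalization.mem_map_algebraMap_iff (vertex p).primeCompl R).1 h
      rw [← map_mul] at e
      obtain ⟨c, hc⟩ := (IsLocalization.eq_iff_exists (vertex p).primeCompl R).1 e
      obtain ⟨t', ht'⟩ := Ideal.Quotient.mk_surjective ((c : S ⧸ p) * (s' : S ⧸ p))
      refine mem_of_mul_mem hp hh (t := t') ?_ i ((comap_vertex_pow p i _).1 ?_)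
      · intro hmem
        refine (c * s').2 ?_
        have hm2 : Ideal.Quotient.mk p t' ∈ vertex p := Ideal.mem_map_of_mem _ hmem
        rw [ht'] at hm2
        exact hm2
      · rw [map_mul, ht', mul_assoc, mul_comm (s' : S ⧸ p), hc]
        exact Ideal.mul_mem_left _ _ hy
    · exact fun h => Ideal.mem_map_of_mem _ ((comap_vertex_pow p i f).2 h)
  have surj : ∀ a : R, ∃ (u : R) (f : S), IsUnit u ∧ a * u = algebraMap (S ⧸ p) R (Ideal.Quotient.mk p f) := by
    intro a
    obtain ⟨⟨x, s⟩, hxs⟩ := IsLocalization.surj (vertex p).primeCompl a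
    obtain ⟨f, rfl⟩ := Ideal.Quotient.mk_surjective x
    exact ⟨_, f, IsLocalization.map_units R s, hxs⟩
  haveI : NoZeroDivisors (AdicCompletion mR R) := noZeroDivisors_adicCompletion mR
    fun i j a b ha ha' hb hb' hab => by
      obtain ⟨u, f, hu, hf⟩ := surj a
      obtain ⟨v, g, hv, hg⟩ := surj b
      have hfg : a * b * (u * v) = algebraMap (S ⧸ p) R (Ideal.Quotient.mk p (f * g)) := by
        rw [map_mul, map_mul, ← hf, ← hg]; ring
      exact mul_not_mem hp hh ((key a u f hu hf i).1 ha) (fun h => ha' ((key a u f hu hf _).2 h))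
        ((key b v g hv hg j).1 hb) (fun h => hb' ((key b v g hv hg _).2 h))
        ((key _ _ _ (hu.mul hv) hfg _).1 hab)
  haveI : Nontrivial (AdicCompletion mR R) := ⟨⟨1, 0, fun h => by
    have h1 : (Submodule.mkQ (mR ^ 1 • ⊤ : Submodule R R) (1 : R)) = 0 := congrArg (fun z : AdicCompletion mR R => z.val 1) h
    rw [Submodule.mkQ_apply, Submodule.Quotient.mk_eq_zero, smul_eq_mul, Ideal.mul_top, pow_one] at h1
    exact (IsLocalRing.maximalIdeal.isMaximal R).ne_top ((Ideal.eq_top_iff_one _).2 h1)⟩⟩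
  exact NoZeroDivisors.to_isDomain _

end Groth.Agent.Licht93.ConeLocal

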