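import Groth.Agent.Licht93.ConeLocal
import Groth.Agent.LC16.NonVanish

/-!
# Decomposability on the cone over an integral projective variety
-/

set_option autoImplicit false

universe u

open MvPolynomial Groth.Agent.LC17

namespace Groth.Agent.Licht93.ConeVanish

open TopCech ConeLocal

attribute [local instance] MvPolynomial.gradedAlgebra

/-- clearing denominators in `pw` -/
theorem exists_smul_mem_pw {A : Type u} [CommRing A] (T : Submonoid A)
    (M : Type u) [AddCommGroup M] [Module A M] :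
    ∀ (fs : List A) (L : ℕ) (z : LocalizedModule T M),
      z ∈ pw (fs.map (algebraMap A (Localization T))) L (ModuleCat.of (Localization T) (LocalizedModule T M)) →
        ∃ (t : T) (y : M), y ∈ pw fs L (ModuleCat.of A M) ∧ (t : A) • z = LocalizedModule.mkLinearMap T M y := by
  intro fs L
  induction fs with
  | nil =>
    intro z hz
    rw [List.map_nil, pw, Submodule.mem_bot] at hz
    exact ⟨1, 0, by simp [pw], by rw [hz]; simp⟩
  | cons f fs ih =>
    intro z hz
    rw [List.map_cons, pw, Submodule.mem_sup] at hz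
    obtain ⟨-, ⟨w, rfl⟩, z', hz', rfl⟩ := hz
    obtain ⟨t, y, hy, hty⟩ := ih z' hz'
    induction w using LocalizedModule.induction_on with | h a s => ?_
    refine ⟨t * s, f ^ L • ((t : A) • a) + (s : A) • y, ?_, ?_⟩
    · rw [pw, Submodule.mem_sup]
      exact ⟨_, ⟨(t : A) • a, rfl⟩, _, Submodule.smul_mem _ _ hy, rfl⟩
    · rw [LinearMap.lsmul_apply, ← map_pow, algebraMap_smul, LocalizedModule.smul'_mk, smul_add,
        map_add, map_smul (LocalizedModule.mkLinearMap T M) (s : A) y, ← hty,
        LocalizedModule.mkLinearMap_apply, LocalizedModule.smul'_mk]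
      congr 1
      · rw [LocalizedModule.mk_eq]
        exact ⟨1, by simp only [one_smul, Submonoid.smul_def, Submonoid.coe_mul, smul_smul]; ring_nf⟩
      · rw [smul_smul, Submonoid.coe_mul, mul_comm]

theorem prod_map {A R : Type u} [CommRing A] [CommRing R] (φ : A →+* R) (fs : List A) (c : ℕ) :
    (fs.map φ).prod ^ c = φ (fs.prod ^ c) := by
  rw [← map_list_prod, map_pow]

theorem mem_pw_of_quot {A B : Type u} [CommRing A] [CommRing B] (φ : A →+* B) (M : Type u)
    [AddCommGroup M] [Module A M] [Module B M] (h : ∀ (a : A) (x : M), φ a • x = a • x) :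
    ∀ (fs : List A) (L : ℕ) (x : M), x ∈ pw (fs.map φ) L (ModuleCat.of B M) ↔
      x ∈ pw fs L (ModuleCat.of A M) := by
  intro fs L
  induction fs with
  | nil => intro x; simp [pw]
  | cons f fs ih =>
    intro x
    rw [List.map_cons, pw, pw, Submodule.mem_sup, Submodule.mem_sup]
    constructor
    · rintro ⟨-, ⟨m, rfl⟩, z, hz, rfl⟩
      exact ⟨_, ⟨m, rfl⟩, z, (ih z).1 hz, by simp only [LinearMap.lsmul_apply, ← map_pow, h]⟩
    · rintro ⟨-, ⟨m, rfl⟩, z, hz, rfl⟩
      exact ⟨_, ⟨m, rfl⟩, z, (ih z).2 hz, by simp only [LinearMap.lsmul_apply, ← map_pow, h]⟩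

theorem dec_add {A : Type u} [CommRing A] {fs : List A} {M : ModuleCat.{u} A} {N : ℕ} {x y : M}
    (hx : Dec fs M N x) (hy : Dec fs M N y) : Dec fs M N (x + y) := by
  obtain ⟨c, hc⟩ := hx
  obtain ⟨d, hd⟩ := hy
  refine ⟨c + d, ?_⟩
  rw [smul_add]
  refine add_mem ?_ ?_
  · rw [show N + (c + d) = N + c + d by omega, show c + d = d + c by omega, pow_add, mul_smul]
    exact smul_pow_mem_pw d hc
  · rw [show N + (c + d) = N + d + c by omega, pow_add, mul_smul]
    exact smul_pow_mem_pw c hd

/-- HLVT for a local ring with domain completion -/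
theorem subsingleton_H_of_prime (R : Type u) [CommRing R] [IsLocalRing R] [IsNoetherianRing R]
    [IsDomain (AdicCompletion (IsLocalRing.maximalIdeal R) R)] (I Q : Ideal R) [Q.IsPrime]
    (hQm : Q ≠ IsLocalRing.maximalIdeal R) (hIQ : I ≤ Q) (n : ℕ) (hdim : ringKrullDim R = n)
    (M : Type u) [AddCommGroup M] [Module R M] (i : ℕ) (hi : n ≤ i) :
    Subsingleton (LocCoh.H I i M) := by
  set C := AdicCompletion (IsLocalRing.maximalIdeal R) R with hC
  haveI : IsNoetherianRing C := EGA4H10.isNoetherianRing_cpl (A := R)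
  haveI : IsLocalHom (algebraMap R C) :=
    ((IsLocalRing.local_hom_TFAE _).out 2 0 rfl rfl).mp AdicCompletion.maximalIdeal_eq_map.symm.le
  haveI : Module.FaithfullyFlat R C := Module.FaithfullyFlat.of_flat_of_isLocalHom
  have hone : 1 ≤ ringKrullDim (C ⧸ I.map (algebraMap R C)) := by
    obtain ⟨P, hP, hPc⟩ : ∃ P : Ideal C, P.IsPrime ∧ P.comap (algebraMap R C) = Q :=
      (Ideal.comap_map_eq_self_iff_of_isPrime Q).1 (Ideal.comap_map_eq_self_of_faithfullyFlat Q)
    have hPm : P < IsLocalRing.maximalIdeal C := lt_of_le_of_ne (IsLocalRing.le_maximalIdeal hP.ne_top)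
      fun e => hQm (by rw [← hPc, e]; exact ((IsLocalRing.local_hom_TFAE (algebraMap R C)).out 0 4 rfl rfl).1 ‹IsLocalHom (algebraMap R C)›)
    rw [ringKrullDim_quotient, Order.one_le_krullDim_iff]
    have hle : I.map (algebraMap R C) ≤ P := Ideal.map_le_iff_le_comap.2 (hPc ▸ hIQ)
    exact ⟨⟨⟨P, hP⟩, hle⟩, ⟨IsLocalRing.closedPoint C, hle.trans hPm.le⟩, hPm⟩
  refine LC17.hlvt R I n hdim (fun P hP _ => ?_) M i hi
  have hP0 : P = ⊥ := le_bot_iff.1 (hP.2 ⟨Ideal.isPrime_bot, le_rfl⟩ bot_le)
  subst hP0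
  rwa [sup_bot_eq]

/-- decomposability near a prime from a common zero -/
theorem exists_dec_local {A : Type u} [CommRing A] [IsNoetherianRing A] (V Q : Ideal A) [V.IsPrime]
    [Q.IsPrime] [IsDomain (AdicCompletion (IsLocalRing.maximalIdeal (Localization.AtPrime V))
      (Localization.AtPrime V))] (hQV : Q ≤ V) (hne : Q ≠ V) (M : Type u) [AddCommGroup M] [Module A M]
    (gs : List A) (hgQ : ∀ g ∈ gs, g ∈ Q) (hlen : V.height ≤ gs.length) (N : ℕ) (x : M) :
    ∃ (c : ℕ) (t : A), t ∉ V ∧ t • (gs.prod ^ c • x) ∈ pw gs (N + c) (ModuleCat.of A M) := by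
  obtain ⟨n, hn⟩ := ENat.ne_top_iff_exists.1 (V.height_ne_top Ideal.IsPrime.ne_top')
  have hdim : ringKrullDim (Localization.AtPrime V) = n := by
    rw [IsLocalization.AtPrime.ringKrullDim_eq_height V (Localization.AtPrime V), ← hn]; rfl
  have hnle : n ≤ gs.length := by rw [← hn] at hlen; exact_mod_cast hlen
  let φ := algebraMap A (Localization.AtPrime V)
  have hdisj : Disjoint (V.primeCompl : Set A) (Q : Set A) :=
    Set.disjoint_left.2 fun a ha ha' => ha (hQV ha')
  haveI hQ : (Q.map φ).IsPrime :=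
    IsLocalization.isPrime_of_isPrime_disjoint V.primeCompl _ Q inferInstance hdisj
  have hQm : Q.map φ ≠ IsLocalRing.maximalIdeal (Localization.AtPrime V) := by
    intro e
    have h2 := congrArg (fun J : Ideal (Localization.AtPrime V) => J.under A) e
    change (Q.map φ).under A = (IsLocalRing.maximalIdeal (Localization.AtPrime V)).under A at h2
    rw [show (Q.map φ).under A = Q from
        IsLocalization.under_map_of_isPrime_disjoint V.primeCompl _ ‹Q.IsPrime› hdisj,
      IsLocalization.AtPrime.comap_maximalIdeal (Localization.AtPrime V) V] at h2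
    exact hne h2
  have hIQ : Ideal.span {y | y ∈ gs.map φ} ≤ Q.map φ := by
    refine Ideal.span_le.2 fun y hy => ?_
    obtain ⟨g, hg, rfl⟩ := List.mem_map.1 hy
    exact Ideal.mem_map_of_mem _ (hgQ g hg)
  have hvan := subsingleton_H_of_prime (Localization.AtPrime V) _ _ hQm hIQ n hdim
    (LocalizedModule V.primeCompl M) (gs.map φ).length (by simpa using hnle)
  obtain ⟨c, hc⟩ := (subsingleton_H_iff (gs.map φ) (LocalizedModule V.primeCompl M)).1 hvan N
    (LocalizedModule.mkLinearMap V.primeCompl M x)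
  rw [prod_map, algebraMap_smul, ← map_smul] at hc
  obtain ⟨t, y, hy, hty⟩ := exists_smul_mem_pw V.primeCompl M gs (N + c) _ hc
  rw [← map_smul] at hty
  obtain ⟨t', ht'⟩ := (IsLocalizedModule.eq_iff_exists V.primeCompl
    (LocalizedModule.mkLinearMap V.primeCompl M)).1 hty
  refine ⟨c, (t' : A) * t, (t' * t).2, ?_⟩
  rw [mul_smul]
  exact (congrArg (fun z => z ∈ pw gs (N + c) (ModuleCat.of A M)) (ht' : (t' : A) • ((t : A) • _) = (t' : A) • y)).mpr
    (Submodule.smul_mem _ _ hy)

variable {K : Type u} [Field K] {m : ℕ} (p : Ideal (MvPolynomial (Fin m) K)) (hp : p.IsPrime)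
  (hh : p.IsHomogeneous (MvPolynomial.homogeneousSubmodule (Fin m) K))

include hp hh in
/-- **Vanishing on the cone**: if the forms have a common zero on `V(p)` away from the vertex, every
element of every module over the cone is eventually decomposable near the vertex. -/
theorem exists_dec (M : Type u) [AddCommGroup M] [Module (MvPolynomial (Fin m) K) M]
    (hpM : ∀ a ∈ p, ∀ x : M, a • x = 0) (fs : List (MvPolynomial (Fin m) K))
    (hlen : (vertex p).height ≤ fs.length) (q : Ideal (MvPolynomial (Fin m) K)) (hq : q.IsPrime)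
    (hpq : p ≤ q) (hqo : q < Cone.origin K m) (hfq : ∀ f ∈ fs, f ∈ q) (N : ℕ) (x : M) :
    ∃ (c : ℕ) (t : MvPolynomial (Fin m) K), t ∉ Cone.origin K m ∧
      t • (fs.prod ^ c • x) ∈ pw fs (N + c) (ModuleCat.of _ M) := by
  classical
  haveI := hp
  let π := Ideal.Quotient.mk p
  haveI hmax := isMaximal_vertex p hp hh
  haveI : IsLocalization.AtPrime (Localization.AtPrime (vertex p)) (vertex p) := inferInstance
  haveI hdom := ConeLocal.isDomain_completion p hp hh (Localization.AtPrime (vertex p))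
  letI : Module (MvPolynomial (Fin m) K ⧸ p) M := Module.IsTorsionBySet.module fun x a => hpM a.1 a.2 x
  have hπ : ∀ (a : MvPolynomial (Fin m) K) (x : M), π a • x = a • x := fun a x => rfl
  haveI hq' : (q.map π).IsPrime :=
    Ideal.map_isPrime_of_surjective Ideal.Quotient.mk_surjective (by rw [Ideal.mk_ker]; exact hpq)
  have hqc : (q.map π).comap π = q := by
    rw [Ideal.comap_map_of_surjective _ Ideal.Quotient.mk_surjective, ← RingHom.ker_eq_comap_bot,
      Ideal.mk_ker, sup_eq_left.2 hpq]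
  have hqne : q.map π ≠ vertex p := fun e => hqo.ne (by rw [← hqc, e, comap_vertex p hp hh])
  have hf : ∀ g ∈ fs.map π, g ∈ q.map π := fun g hg => by
    obtain ⟨f, hf, rfl⟩ := List.mem_map.1 hg
    exact Ideal.mem_map_of_mem _ (hfq f hf)
  obtain ⟨c, t, ht, hc⟩ := exists_dec_local (vertex p) (q.map π) (Ideal.map_mono hqo.le) hqne M
    (fs.map π) hf (by simpa using hlen) N x
  obtain ⟨t₀, ht₀⟩ := Ideal.Quotient.mk_surjective t
  refine ⟨c, t₀, fun hc0 => ht ?_, ?_⟩
  · rw [← ht₀]
    exact Ideal.mem_map_of_mem _ hc0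
  · rw [← hπ t₀, show π t₀ = t from ht₀, ← hπ (fs.prod ^ c), ← prod_map π fs c]
    exact (mem_pw_of_quot π M hπ fs (N + c) _).1 hc

include hp hh in
/-- **Non-vanishing on the cone**: if the forms cut out only the vertex and their number is the height
of the vertex, some homogeneous element is not eventually decomposable. -/
theorem exists_not_dec (fs : List (MvPolynomial (Fin m) K))
    (hlen : (vertex p).height = fs.length)
    (hcut : ∀ q : Ideal (MvPolynomial (Fin m) K), q.IsPrime → p ≤ q → (∀ f ∈ fs, f ∈ q) →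
      Cone.origin K m ≤ q) (hfo : ∀ f ∈ fs, f ∈ Cone.origin K m) :
    ∃ (N e : ℕ) (x : MvPolynomial (Fin m) K), x.IsHomogeneous e ∧
      ¬ Dec fs (ModuleCat.of _ (MvPolynomial (Fin m) K ⧸ p)) N (Ideal.Quotient.mk p x) := by
  classical
  haveI := hp
  haveI hmax := isMaximal_vertex p hp hh
  let π := Ideal.Quotient.mk p
  by_contra hall
  push Not at hall
  let I : Ideal (MvPolynomial (Fin m) K ⧸ p) := Ideal.span {y | y ∈ fs.map π}
  have hmin : vertex p ∈ I.minimalPrimes := by
    refine ⟨⟨hmax.isPrime, Ideal.span_le.2 fun y hy => ?_⟩, fun P hP hle => ?_⟩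
    · obtain ⟨f, hf, rfl⟩ := List.mem_map.1 hy
      exact Ideal.mem_map_of_mem _ (hfo f hf)
    · haveI := hP.1
      refine Ideal.map_le_iff_le_comap.2 (hcut _ inferInstance ?_ fun f hf => ?_)
      · intro a ha
        rw [Ideal.mem_comap, Ideal.Quotient.eq_zero_iff_mem.2 ha]
        exact zero_mem _
      · exact hP.2 (Ideal.subset_span (List.mem_map.2 ⟨f, hf, rfl⟩))
  have hnon := LC16.NonVanish.nontrivial_H_of_minimalPrime I hmin hlen
  rw [← not_subsingleton_iff_nontrivial] at hnon
  refine hnon ?_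
  have hlen2 : (fs.map π).length = fs.length := by simp
  rw [← hlen2]
  refine (subsingleton_H_iff (fs.map π) (MvPolynomial (Fin m) K ⧸ p)).2 fun N y => ?_
  obtain ⟨f, rfl⟩ := Ideal.Quotient.mk_surjective y
  rw [← sum_homogeneousComponent f, map_sum]
  refine Finset.sum_induction _ (fun z : MvPolynomial (Fin m) K ⧸ p =>
    Dec (fs.map π) (ModuleCat.of (MvPolynomial (Fin m) K ⧸ p) (MvPolynomial (Fin m) K ⧸ p)) N z)
    (fun a b ha hb => dec_add ha hb) ⟨0, by simp⟩ fun e _ => ?_
  obtain ⟨c, hc⟩ := hall N e _ (homogeneousComponent_isHomogeneous e f)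
  refine ⟨c, (mem_pw_of_quot π _ (fun a z => rfl) fs (N + c) _).2 ?_⟩
  rw [prod_map]
  exact hc

end Groth.Agent.Licht93.ConeVanish
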