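import Groth.Agent.Licht93.LerayVanish
import Groth.Agent.Var76.FibreBound
import Groth.Agent.Coh69.FibreDim
import Groth.Agent.RB70.Coherent
import Groth.Agent.GSS45.SchemeSS
import Groth.Agent.TopCoh49.Rpush
import Groth.Agent.Coh69.AffVanish

/-!
# Top cohomology and proper morphisms which are isomorphisms generically
-/

set_option autoImplicit false
set_option backward.isDefEq.respectTransparency.types false

universe u

open CategoryTheory CategoryTheory.Limits AlgebraicGeometry TopologicalSpace Opposite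
open Groth.Agent.WC97 (tdegN)

noncomputable section

namespace Groth.Agent.Licht93.DimImage

variable {k : Type u} [Field k] {X Y : Scheme.{u}} (qX : X ⟶ Spec (CommRingCat.of k))
  (qY : Y ⟶ Spec (CommRingCat.of k)) [LocallyOfFiniteType qX] [LocallyOfFiniteType qY]
  (f : X ⟶ Y) [IsProper f]

include qY in
theorem isLocallyNoetherian_target : IsLocallyNoetherian Y := LocallyOfFiniteType.isLocallyNoetherian qY

/-- a point of a small image carrying higher direct images -/
theorem tdegN_add_lt (hf : f ≫ qY = qX) (W : Y.Opens) (hW : ∀ y ∈ W, topologicalKrullDim ↥(f.fiber y) ≤ 0)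
    (d : ℕ) (hd : ∀ x : X, f x ∉ W → tdegN qX x < d) (G : X.Modules) (hG : Coh.IsCoh G) (q : ℕ) (y : Y)
    (hy : ¬ IsZero (TopCat.Presheaf.stalk ((Coh.RpushAb f (q + 1)).obj (Coh.toAb G)).obj y)) :
    tdegN qY y + (q + 1) < d := by
  haveI := isLocallyNoetherian_target qY
  by_contra hlt
  apply hy
  by_cases hyW : y ∈ W
  · exact Coh69.FibreDim.isZero_stalk f y 0 (by simpa using hW y hyW) G hG (q + 1) (by omega)
  refine Coh69.FibreDim.isZero_stalk f y q ((E4O.dim_fiber_le_iff f y _).2 fun x hx => ?_) G hG (q + 1) (by omega)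
  have h1 := Var76.FibreBound.tdegN_eq_add (qX := qX) (qY := qY) f hf x
  have h2 := hd x (by rw [hx]; exact hyW)
  have hx' : f x = y := hx
  rw [hx'] at h1
  exact Nat.cast_le.2 (by omega)

variable [QuasiCompact qY]

include qX qY in
/-- **Vanishing on the source** in the top degree, from the direct image. -/
theorem subsingleton_source [HasInjectiveResolutions X.Modules] (hf : f ≫ qY = qX) (W : Y.Opens)
    (hW : ∀ y ∈ W, topologicalKrullDim ↥(f.fiber y) ≤ 0) (d : ℕ) (hd : ∀ x : X, f x ∉ W → tdegN qX x < d)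
    (G : X.Modules) (hG : Coh.IsCoh G)
    (h : Subsingleton (Coh69.HE (Coh.toAb ((Scheme.Modules.pushforward f).obj G)) d (⊤ : Y.Opens))) :
    Subsingleton (Coh69.HE (Coh.toAb G) d (⊤ : X.Opens)) := by
  haveI := isLocallyNoetherian_target qY
  haveI : NoetherianSpace Y := Var76.FibreBound.noetherianSpace qY
  haveI : NoetherianSpace Y.toTopCat := ‹NoetherianSpace Y›
  let R : ℕ → Y.Modules := fun q => (Coh.Rpush f q).obj G
  have hR : ∀ q, Coh.IsCoh (R q) := fun q => RB70.isCoh_rpush f G hG q
  have hloc : ∀ q, q + 1 ≤ d → LerayVanish.LocZeroOff f.base (Coh.toAb G : CohTop.Ab X.toTopCat) (q + 1)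
      (CohB1.support (R (q + 1))) := by
    intro q hq U s y hy hyZ
    obtain ⟨e⟩ := GSS45.nonempty_toAb_Rpush f G (q + 1)
    have hz : IsZero (TopCat.Presheaf.stalk ((Coh.RpushAb f (q + 1)).obj (Coh.toAb G)).obj y) := by
      haveI : Subsingleton ((R (q + 1)).presheaf.stalk y) := QC70.notMem_support_iff.mp hyZ
      exact (@AddCommGrpCat.isZero_of_subsingleton (TopCat.Presheaf.stalk (Coh.toAb (R (q + 1))).obj y)
        (show Subsingleton ((R (q + 1)).presheaf.stalk y) from inferInstance)).of_iso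
        ((TopCat.Presheaf.stalkFunctor AddCommGrpCat.{u} y).mapIso
          ((sheafToPresheaf _ _).mapIso e)).symm
    -- transport along `RpushIso`
    let P := TopCoh49.hPre f.base (Coh.toAb G : CohTop.Ab X.toTopCat) (q + 1)
    have hP : IsZero (TopCat.Presheaf.stalk P y) := by
      have hiso := TopCat.Presheaf.stalkFunctor_map_unit_toSheafify_isIso (X := Y.toTopCat) y AddCommGrpCat.{u} P
      exact (hz.of_iso ((TopCat.Presheaf.stalkFunctor AddCommGrpCat.{u} y).mapIso
          ((sheafToPresheaf _ _).mapIso (TopCoh49.RpushIso f.base (Coh.toAb G : CohTop.Ab X.toTopCat) (q + 1)))).symm).of_iso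
        (@asIso _ _ _ _ _ hiso)
    have h0 : TopCat.Presheaf.germ P U y hy s = TopCat.Presheaf.germ P U y hy 0 :=
      (AddCommGrpCat.subsingleton_of_isZero hP).elim _ _
    obtain ⟨V, hyV, iV, jV, hVe⟩ := TopCat.Presheaf.germ_eq (F := P) y hy hy s 0 h0
    exact ⟨V, leOfHom iV, hyV, hVe.trans (map_zero _)⟩
  have hdim : ∀ q, q + 1 ≤ d → (CohB1.support (R (q + 1)) = ∅ ∨
      ∃ e, e + (q + 1) < d ∧ topologicalKrullDim ↥(CohB1.support (R (q + 1))) ≤ (e : WithBot ℕ∞)) := by
    intro q hq
    have hb : ∀ y ∈ CohB1.support (R (q + 1)), tdegN qY y + (q + 1) < d := by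
      intro y hy
      obtain ⟨e⟩ := GSS45.nonempty_toAb_Rpush f G (q + 1)
      refine tdegN_add_lt qX qY f hf W hW d hd G hG q y fun hz => hy ?_
      exact AddCommGrpCat.subsingleton_of_isZero (hz.of_iso
        ((TopCat.Presheaf.stalkFunctor AddCommGrpCat.{u} y).mapIso ((sheafToPresheaf _ _).mapIso e)))
    rcases (CohB1.support (R (q + 1))).eq_empty_or_nonempty with he | ⟨y₀, hy₀⟩
    · exact Or.inl he
    · refine Or.inr ⟨d - (q + 1) - 1, by have := hb y₀ hy₀; omega, ?_⟩
      haveI := (hR (q + 1)).2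
      exact Var76.FibreBound.dim_le_of_forall qY (QC70.isClosed_support _)
        fun y hy => Nat.cast_le.2 (by have := hb y hy; omega)
  exact LerayVanish.subsingleton_of_dim f.base d (Coh.toAb G : CohTop.Ab X.toTopCat)
    (fun q => CohB1.support (R q)) (fun q => by haveI := (hR q).2; exact QC70.isClosed_support _) hloc hdim h

end Groth.Agent.Licht93.DimImage
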