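import Groth.Agent.QC70.GenIso
import Groth.Agent.QC70.UnitSub
import Groth.Agent.Var76.LineBundle
import Groth.Agent.Var76.SuppVanish
import Groth.Agent.Var76.FibreBound
import Groth.Agent.ValVan29.Vanish
import Groth.Agent.Coh69.AffVanish

/-!
# Top cohomology only sees the generic stalk
-/

set_option autoImplicit false
set_option backward.isDefEq.respectTransparency.types false
set_option maxSynthPendingDepth 6
set_option maxHeartbeats 1000000

universe u

open CategoryTheory CategoryTheory.Limits AlgebraicGeometry TopologicalSpace Opposite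

noncomputable section

namespace Groth.Agent.Licht93.GenericStalk

open QC70

variable {X : Scheme.{u}}

/-- extending a stalk isomorphism at a point of an affine open from a power of the ideal of the complement -/
theorem exists_extend [IsNoetherian X] (I : X.IdealSheafData) {V : X.Opens} (hV : IsAffineOpen V)
    (hI : (I.support : Set X) = (V : Set X)ᶜ) {M F : X.Modules} (hM : Coh.IsCoh M)
    (hF : Coh.IsCoh F) (x : X) (hxV : x ∈ V)
    (e : M.presheaf.stalk x ≃ₗ[X.presheaf.stalk x] F.presheaf.stalk x) :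
    ∃ (n : ℕ) (ψ : (Dual3.idealMul (I ^ n)).obj M ⟶ F), Function.Surjective (stalkMapM ψ x) := by
  obtain ⟨_, _⟩ := hM
  obtain ⟨_, _⟩ := hF
  have := IsLocallyNoetherian.component_noetherian (⟨V, hV⟩ : X.affineOpens)
  have := finite_sections_of_isFiniteType M hV
  have := Module.finitePresentation_of_finite Γ(X, V) Γ(M, V)
  obtain ⟨s, h, hxs, hh⟩ := exists_lift_stalk hV hxV (isLocAt_of_isQuasicoherent F hV) e.toLinearMap
  obtain ⟨n, ψ, hψ⟩ := exists_idealMul_lift I (U := V) (by rw [hI, compl_compl]) F M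
    (HomOn.ofLinear hV h)
  refine ⟨n, ψ, fun z => ?_⟩
  have hxI : x ∉ ((I ^ n).support : Set X) := notMem_support_pow (fun hx' => (hI.le hx') hxV) n
  have := isQuasicoherent_idealMul (I ^ n) M
  have hι := bijective_stalk_idealMulι (I ^ n) M hxI
  have hψx : ∀ y, stalkMapM ψ x y =
      X.presheaf.germ V x hxV s • e (stalkMapM (Dual3.idealMulι (I ^ n) M) x y) := by
    intro y
    obtain ⟨f, t, hxf, ht⟩ := stalk_exists_smul (isLocAt_idealMul (I ^ n) M hV) hV hxV y
    refine (isUnit_germ hxf).smul_left_cancel.mp ?_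
    change X.presheaf.germ V x hxV f • stalkLinear ψ x y = X.presheaf.germ V x hxV f •
      (X.presheaf.germ V x hxV s • e (stalkLinear (Dual3.idealMulι (I ^ n) M) x y))
    rw [smul_comm, ← LinearMap.map_smul, ← map_smul e, ← LinearMap.map_smul, ht]
    change stalkMapM ψ x (germM _ V x hxV t) =
      _ • e (stalkMapM _ x (germM _ V x hxV t))
    rw [stalkMapM_germ, stalkMapM_germ, hψ V le_rfl t, HomOn.ofLinear_app_self]
    exact hh _
  obtain ⟨v, hv⟩ := isUnit_germ hxs
  obtain ⟨y, hy⟩ := hι.2 (e.symm ((↑v⁻¹ : X.presheaf.stalk x) • z))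
  exact ⟨y, by rw [hψx, hy, e.apply_symm_apply, ← hv, smul_smul, Units.mul_inv, one_smul]⟩

/-- a frame gives the stalk -/
theorem nonempty_stalk_equiv_of_frame {L : X.Modules} {U : X.Opens} {e : Γ(L, U)}
    (he : Var76.LineBundle.IsFrame L U e) {x : X} (hx : x ∈ U) :
    Nonempty (X.presheaf.stalk x ≃ₗ[X.presheaf.stalk x] L.presheaf.stalk x) := by
  refine ⟨LinearEquiv.ofBijective (LinearMap.toSpanSingleton _ _ (germM L U x hx e))
    ⟨(injective_iff_map_eq_zero _).2 fun r hr => ?_, fun z => ?_⟩⟩
  · obtain ⟨W, hxW, a, rfl⟩ := TopCat.Presheaf.exists_germ_eq X.presheaf r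
    have hxi : x ∈ W ⊓ U := ⟨hxW, hx⟩
    rw [LinearMap.toSpanSingleton_apply, ← germ_resO inf_le_left hxi a,
      ← germM_res (inf_le_right : W ⊓ U ≤ U) hxi e, ← germM_smul] at hr
    obtain ⟨W', hW', hxW', h0⟩ := germM_eq_zero hr
    rw [QC70.res_smul, QC70.res_res, resO_resO] at h0
    have h1 : resO X (hW'.trans inf_le_left) a = 0 :=
      (he W' (hW'.trans inf_le_right)).1 (h0.trans (zero_smul _ _).symm)
    rw [← germ_resO (hW'.trans inf_le_left) hxW' a, h1, map_zero]
  · obtain ⟨W, hxW, m, rfl⟩ := germM_exist z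
    have hxi : x ∈ W ⊓ U := ⟨hxW, hx⟩
    obtain ⟨c, hc⟩ := (he (W ⊓ U) inf_le_right).2 (QC70.res L inf_le_left m)
    refine ⟨X.presheaf.germ (W ⊓ U) x hxi c, ?_⟩
    rw [LinearMap.toSpanSingleton_apply, ← germM_res (inf_le_right : W ⊓ U ≤ U) hxi e, ← germM_smul,
      ← germM_res (inf_le_left : W ⊓ U ≤ W) hxi m]
    exact congrArg (germM L (W ⊓ U) x hxi) hc

/-- the generic stalk of a submodule of the structure module -/
theorem stalk_ideal [IsIntegral X] {I : X.Modules} (ι : I ⟶ Coh.structureModule X) [Mono ι] :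
    Subsingleton (I.presheaf.stalk (genericPoint X)) ∨
      Nonempty (X.presheaf.stalk (genericPoint X) ≃ₗ[X.presheaf.stalk (genericPoint X)]
        I.presheaf.stalk (genericPoint X)) := by
  rcases subsingleton_or_nontrivial (I.presheaf.stalk (genericPoint X)) with h | h
  · exact Or.inl h
  refine Or.inr ?_
  let η := genericPoint X
  let φ : I.presheaf.stalk η →ₗ[X.presheaf.stalk η] X.presheaf.stalk η :=
    (unitStalkEquiv η).symm.toLinearMap.comp (stalkLinear ι η)
  have hinj : Function.Injective φ :=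
    (unitStalkEquiv η).symm.injective.comp (injective_stalkMapM_of_mono ι η)
  refine ⟨(LinearEquiv.ofBijective φ ⟨hinj, fun r => ?_⟩).symm⟩
  obtain ⟨z, hz⟩ := exists_ne (0 : I.presheaf.stalk η)
  have hne : φ z ≠ 0 := fun e => hz (hinj (e.trans (map_zero φ).symm))
  let K : Field X.functionField := inferInstance
  obtain ⟨c, hc⟩ : ∃ c : X.functionField, c * φ z = 1 := ⟨(φ z : X.functionField)⁻¹, inv_mul_cancel₀ hne⟩
  exact ⟨(r * c : X.presheaf.stalk η) • z, by
    rw [map_smul, smul_eq_mul, mul_assoc, show (c : X.presheaf.stalk η) * φ z = 1 from hc, mul_one]⟩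

variable {k : Type u} [Field k] (f : X ⟶ Spec (CommRingCat.of k)) [LocallyOfFiniteType f] [QuasiCompact f]
  [IsIntegral X] {d : ℕ} (hd : topologicalKrullDim X = d)

include f hd in
/-- modules vanishing at the generic point have no top cohomology -/
theorem subsingleton_of_stalk {M : X.Modules} [M.IsFiniteType]
    (h : Subsingleton (M.presheaf.stalk (genericPoint X))) : Subsingleton (Coh.HH X M d) := by
  haveI : NoetherianSpace X := Var76.FibreBound.noetherianSpace f
  rcases (CohB1.support M).eq_empty_or_nonempty with he | ⟨x₀, hx₀⟩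
  · exact ValVan29.subsingleton_hh_of_isZero (isZero_of_support_eq_empty he) d
  have hlt : ∀ x ∈ CohB1.support M, WC97.tdegN f x < d := fun x hx => by
    have hne : genericPoint X ≠ x := fun e => hx (e ▸ h)
    have h1 := Var76.FibreBound.tdegN_lt f ((genericPoint_spec X).specializes trivial) hne
    have h2 := (WC97.dim_eq f).1
    rw [hd] at h2
    have h3 : d = WC97.tdegN f (genericPoint X) := by exact_mod_cast h2
    omega
  have hd1 := hlt x₀ hx₀
  have hdim : topologicalKrullDim ↥(CohB1.support M) ≤ ((d - 1 : ℕ) : WithBot ℕ∞) :=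
    Var76.FibreBound.dim_le_of_forall f (isClosed_support M) fun x hx =>
      Nat.cast_le.2 (by have := hlt x hx; omega)
  exact Var76.subsingleton_HH_of_support M (isClosed_support M)
    (fun x hx => notMem_support_iff.1 hx) hdim d (by omega)

include f hd in
/-- top cohomology along a map that is surjective at the generic point -/
theorem subsingleton_of_map {A B : X.Modules} (χ : A ⟶ B) [B.IsFiniteType]
    (hs : Function.Surjective (stalkMapM χ (genericPoint X))) (hA : Subsingleton (Coh.HH X A d)) :
    Subsingleton (Coh.HH X B d) := by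
  haveI : NoetherianSpace X := Var76.FibreBound.noetherianSpace f
  have hC : Subsingleton (Coh.HH X (cokernel χ) d) :=
    haveI : (cokernel χ).IsFiniteType := isFiniteType_of_epi (cokernel.π χ)
    subsingleton_of_stalk f hd (subsingleton_stalk_cokernel χ _ hs)
  let p : A ⟶ kernel (cokernel.π χ) := kernel.lift _ χ (cokernel.condition χ)
  haveI : Epi p := inferInstanceAs (Epi (Abelian.factorThruImage χ))
  have hS₁ : (ShortComplex.mk (kernel.ι p) p (kernel.condition p)).ShortExact :=
    { exact := ShortComplex.exact_of_f_is_kernel _ (kernelIsKernel p) }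
  have hS₂ : (ShortComplex.mk (kernel.ι (cokernel.π χ)) (cokernel.π χ) (kernel.condition _)).ShortExact :=
    { exact := ShortComplex.exact_of_f_is_kernel _ (kernelIsKernel _) }
  have hK : Subsingleton (Coh.HH X (kernel p) (d + 1)) := by
    refine Var76.subsingleton_HH_of_support _ isClosed_univ (fun x hx => (hx trivial).elim) (d := d) ?_ _ (by omega)
    exact (IsHomeomorph.topologicalKrullDim_eq _ (Homeomorph.Set.univ X).isHomeomorph).trans hd |>.le
  exact ValVan29.subsingleton_hh_X₂ hS₂ d (ValVan29.subsingleton_hh_X₃ hS₁ d hA hK) hC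

end Groth.Agent.Licht93.GenericStalk
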