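import Groth.Agent.RB70.GrSys
import Groth.Agent.FF71.Main
import Groth.Agent.Serre71.HHLin
import Groth.Agent.QC70.Ideal
import Groth.Agent.QC70.DevissageAux

/-!
# Powers of an ideal from the base: uniform vanishing of twists and sections
-/

set_option autoImplicit false
set_option backward.isDefEq.respectTransparency.types false
set_option maxSynthPendingDepth 6
set_option maxHeartbeats 1000000
set_option synthInstance.maxHeartbeats 200000

universe u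

open CategoryTheory CategoryTheory.Limits AlgebraicGeometry TopologicalSpace Opposite

noncomputable section

namespace Groth.Agent.Licht93.IdealTwist

open FF71

variable {A : Type u} [CommRing A] [IsNoetherianRing A] {Z : Scheme.{u}} [Z.Over (Spec (CommRingCat.of A))]
  [IsProper (Z ↘ Spec (CommRingCat.of A))] (I : Ideal A) (𝔞 : Z.IdealSheafData)

/-- powers of the ideal -/
theorem ideal_pow_eq (h𝔞 : ∀ V : Z.affineOpens, 𝔞.ideal V = I.map (rA A Z V.1)) (b : ℕ) (V : Z.affineOpens) :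
    (𝔞 ^ b).ideal V = (I ^ b).map (rA A Z V.1) := by
  rw [Scheme.IdealSheafData.ideal_pow, Pi.pow_apply, h𝔞, Ideal.map_pow]

/-- the powers inside a module -/
abbrev K (M : Z.Modules) (b : ℕ) : Z.Modules := (Dual3.idealMul (𝔞 ^ b)).obj M

theorem mem_iff (h𝔞 : ∀ V : Z.affineOpens, 𝔞.ideal V = I.map (rA A Z V.1)) (M : Z.Modules) [M.IsQuasicoherent]
    (b : ℕ) (V : Z.affineOpens) (x : Γ(M, V.1)) :
    (∃ c, (Dual3.idealMulι (𝔞 ^ b) M).app V.1 c = x) ↔ x ∈ secI A (I ^ b) M V.1 := by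
  rw [QC70.mem_idealMul_iff, ideal_pow_eq I 𝔞 h𝔞]
  rfl

theorem isCoh_K [IsLocallyNoetherian Z] {M : Z.Modules} (hM : Coh.IsCoh M) (b : ℕ) : Coh.IsCoh (K 𝔞 M b) := by
  haveI := hM.1
  haveI := hM.2
  exact ⟨QC70.isQuasicoherent_idealMul _ _, QC70.isFiniteType_idealMul _ _⟩

/-- **Uniform vanishing.** -/
theorem exists_vanishing (h𝔞 : ∀ V : Z.affineOpens, 𝔞.ideal V = I.map (rA A Z V.1)) {L : Z.Modules}
    (hL : CohB1.IsAmple L) {M : Z.Modules} (hM : Coh.IsCoh M) :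
    ∃ n₀ : ℕ, ∀ n, n₀ ≤ n → ∀ b q : ℕ, 1 ≤ q →
      Subsingleton (Coh.HH Z (CohB1.tensorMod (K 𝔞 M b) (CohB1.tensorPow L n)) q) := by
  classical
  haveI : IsLocallyNoetherian Z := LocallyOfFiniteType.isLocallyNoetherian (Z ↘ Spec (CommRingCat.of A))
  haveI : CompactSpace Z := QuasiCompact.compactSpace_of_compactSpace (Z ↘ Spec (CommRingCat.of A))
  haveI := hM.1
  haveI : ∀ b, (K 𝔞 M b).IsQuasicoherent := fun b => (isCoh_K 𝔞 hM b).1
  obtain ⟨T₀, hTfin, hTcov⟩ := isCompact_and_isOpen_iff_finite_and_eq_biUnion_affineOpens.mp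
    ⟨(isCompact_univ : IsCompact (Set.univ : Set Z)), isOpen_univ⟩
  haveI := hTfin.to_subtype
  let U : T₀ → Z.affineOpens := fun W => W.1
  have hU : ∀ p : Z, ∃ i, p ∈ (U i).1 := fun p => by
    obtain ⟨W, hW, hp⟩ := Set.mem_iUnion₂.1 (hTcov.le (Set.mem_univ p))
    exact ⟨⟨W, hW⟩, hp⟩
  have hcov : (⨆ i, (U i).1) = ⊤ := eq_top_iff.2 fun p _ => Opens.mem_iSup.2 (hU p)
  obtain ⟨r, g, hg⟩ := Submodule.fg_iff_exists_fin_generating_family.1 (IsNoetherian.noetherian I)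
  have hgI : ∀ j, g j ∈ I := fun j => hg ▸ Submodule.subset_span ⟨j, rfl⟩
  have hlift : ∀ (j : Fin r) (b : ℕ), ∃ ψ : K 𝔞 M b ⟶ K 𝔞 M (b + 1),
      ψ ≫ Dual3.idealMulι (𝔞 ^ (b + 1)) M = Dual3.idealMulι (𝔞 ^ b) M ≫ Formal.smulMod A M (g j) := fun j b =>
    QC70.exists_lift_of_mono _ _ (fun i => (U i).1) hcov (fun i => (U i).2)
      (fun i => QC70.isLocAt_of_isQuasicoherent _ (U i).2) fun i x => by
      refine (mem_iff I 𝔞 h𝔞 M (b + 1) (U i) _).2 ?_
      rw [Scheme.Modules.Hom.comp_app, ConcreteCategory.comp_apply]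
      erw [FF71.smulMod_app]
      refine secI_induction (P := fun y => rA A Z (U i).1 (g j) • y ∈ secI A (I ^ (b + 1)) M (U i).1) ?_ ?_ ?_
        ((mem_iff I 𝔞 h𝔞 M b (U i) _).1 ⟨x, rfl⟩)
      · rw [smul_zero]; exact zero_mem _
      · intro y z hy hz; rw [smul_add]; exact add_mem hy hz
      · intro a ha m
        rw [smul_smul, ← map_mul]
        exact smul_mem_secI (pow_succ' I b ▸ Ideal.mul_mem_mul (hgI j) ha) m
  choose T hT using hlift
  refine RB70.exists_vanishing_graded (Z ↘ Spec (CommRingCat.of A)) hL (U := U) hU r (K 𝔞 M)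
    (isCoh_K 𝔞 hM) T (fun i j b => ?_) 0 fun b _ i => ?_
  · rw [← cancel_mono (Dual3.idealMulι (𝔞 ^ (b + 1 + 1)) M)]
    simp only [Category.assoc, hT, reassoc_of% hT]
    refine congrArg (_ ≫ ·) (Scheme.Modules.hom_ext _ _ fun W => ?_)
    ext m
    simp only [Scheme.Modules.Hom.comp_app, ConcreteCategory.comp_apply]
    erw [FF71.smulMod_app, FF71.smulMod_app, FF71.smulMod_app, FF71.smulMod_app]
    rw [smul_smul, smul_smul, mul_comm]
  · refine eq_top_iff.2 fun c _ => ?_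
    let ι' := (Dual3.idealMulι (𝔞 ^ (b + 1)) M).app (U i).1
    let S := ⨆ j, LinearMap.range (E4O.Sep.appL (T j b) (U i).1)
    suffices h : ∀ y ∈ secI A (I ^ (b + 1)) M (U i).1, ∃ c' ∈ S, ι' c' = y by
      obtain ⟨c', hc', e⟩ := h _ ((mem_iff I 𝔞 h𝔞 M (b + 1) (U i) _).1 ⟨c, rfl⟩)
      rwa [← QC70.app_injective_of_mono (Dual3.idealMulι (𝔞 ^ (b + 1)) M) (U i).1 e]
    intro y hy
    refine secI_induction (P := fun y => ∃ c' ∈ S, ι' c' = y) ⟨0, zero_mem _, map_zero _⟩ ?_ ?_ hy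
    · rintro x z ⟨c₁, h₁, e₁⟩ ⟨c₂, h₂, e₂⟩
      exact ⟨c₁ + c₂, add_mem h₁ h₂, by rw [map_add, e₁, e₂]⟩
    intro a ha
    rw [pow_succ'] at ha
    refine Submodule.mul_induction_on ha (fun a₁ ha₁ a₂ ha₂ => ?_) fun a₁ a₂ h₁ h₂ m => ?_
    · rw [← hg] at ha₁
      induction ha₁ using Submodule.span_induction generalizing a₂ with
      | mem a₁ hj =>
        obtain ⟨j, rfl⟩ := hj
        intro m
        obtain ⟨x, hx⟩ := (mem_iff I 𝔞 h𝔞 M b (U i) (rA A Z (U i).1 a₂ • m)).2 (smul_mem_secI ha₂ m)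
        refine ⟨(T j b).app (U i).1 x, Submodule.mem_iSup_of_mem j ⟨x, rfl⟩, ?_⟩
        refine (congr(Scheme.Modules.Hom.app $(hT j b) (U i).1 x)).trans ?_
        rw [Scheme.Modules.Hom.comp_app, ConcreteCategory.comp_apply]
        erw [FF71.smulMod_app]
        rw [hx, smul_smul, ← map_mul]
      | zero =>
        intro m
        exact ⟨0, zero_mem _, by rw [zero_mul, map_zero (rA A Z (U i).1), zero_smul]; exact map_zero ι'.hom⟩
      | add u v _ _ hu hv =>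
        intro m
        obtain ⟨c₁, h₁, e₁⟩ := hu a₂ ha₂ m
        obtain ⟨c₂, h₂, e₂⟩ := hv a₂ ha₂ m
        exact ⟨c₁ + c₂, add_mem h₁ h₂, by rw [map_add, e₁, e₂, add_mul, map_add, add_smul]⟩
      | smul t u _ hu =>
        intro m
        rw [smul_eq_mul, mul_comm t u, mul_assoc]
        exact hu _ (Ideal.mul_mem_left _ t ha₂) m
    · obtain ⟨c₁, e₁', e₁⟩ := h₁ m
      obtain ⟨c₂, e₂', e₂⟩ := h₂ m
      exact ⟨c₁ + c₂, add_mem e₁' e₂', by rw [map_add, e₁, e₂, map_add, add_smul]⟩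

/-- **Sections** of high powers are small. -/
theorem exists_mem_smul (h𝔞 : ∀ V : Z.affineOpens, 𝔞.ideal V = I.map (rA A Z V.1)) {M : Z.Modules}
    (hM : Coh.IsCoh M) (m : ℕ) :
    ∃ b₀, ∀ b, b₀ ≤ b → ∀ y : Γ(K 𝔞 M b, ⊤),
      (Dual3.idealMulι (𝔞 ^ b) M).app ⊤ y ∈
        (I ^ m).map (Serre71.globalA A Z) • (⊤ : Submodule Γ(Z, ⊤) Γ(M, ⊤)) := by
  haveI := hM.1
  obtain ⟨d, hd⟩ := FF71.exists_R_subset I M hM 0
  refine ⟨m + d + 1, fun b hb y => ?_⟩
  obtain ⟨n, rfl⟩ : ∃ n, b = n + 1 := ⟨b - 1, by omega⟩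
  let y' := (Dual3.idealMulι (𝔞 ^ (n + 1)) M).app ⊤ y
  obtain ⟨x, hx⟩ := (Serre71.hzero M).surjective y'
  have h0 : (Formal.modPowπ I (n + 1) M).app ⊤ y' = 0 := by
    refine QC70.section_ext _ _ 0 fun p _ => ?_
    obtain ⟨_, ⟨V, hV, rfl⟩, hpV, -⟩ :=
      Z.isBasis_affineOpens.exists_subset_of_mem_open (Set.mem_univ p) isOpen_univ
    refine ⟨V, le_top, hpV, ?_⟩
    rw [QC70.res_zero, ← QC70.app_res]
    refine FF71.modPowπ_app_of_mem I M (n + 1) ?_
    refine (mem_iff I 𝔞 h𝔞 M (n + 1) ⟨V, hV⟩ _).1 ⟨QC70.res _ le_top y, ?_⟩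
    exact QC70.app_res _ _ _
  have hR : x ∈ FF71.R I M 0 n := by
    refine (Serre71.hzero (Formal.modPow I (n + 1) M)).injective ?_
    rw [map_zero]
    refine Eq.trans ?_ h0
    rw [← hx]
    exact Serre71.hzero_hmap (A := A) (Formal.modPowπ I (n + 1) M) x
  have h1 := (hd n (by omega)).1 x hR
  have h2 : ∀ z ∈ I ^ (n + 1 - d) • (⊤ : Submodule A (Coh.HH Z M 0)), Serre71.hzero M z ∈
      (I ^ m).map (Serre71.globalA A Z) • (⊤ : Submodule Γ(Z, ⊤) Γ(M, ⊤)) := by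
    intro z hz
    refine Submodule.smul_induction_on hz (fun a ha w _ => ?_) fun u v hu hv => by
      rw [map_add]; exact add_mem hu hv
    rw [Serre71.hzero_smul]
    exact Submodule.smul_mem_smul (Ideal.mem_map_of_mem _ (Ideal.pow_le_pow_right (by omega) ha)) trivial
  have h3 := h2 x h1
  rw [hx] at h3
  exact h3

end Groth.Agent.Licht93.IdealTwist
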