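import Groth.Agent.TopCoh49.Compare
import Groth.Agent.TopCoh49.Noetherian
import Groth.Agent.TopCoh49.ClosedPush
import Groth.Agent.Var76.SuppVanish

/-!
# Vanishing on the source from vanishing of the Leray terms
-/

set_option autoImplicit false

universe u

open CategoryTheory Limits TopologicalSpace Opposite Abelian

noncomputable section

namespace Groth.Agent.Licht93.LerayVanish

open TopCoh49

variable {X Y : TopCat.{u}} (f : X ⟶ Y)

/-- classes of degree `q` die locally on the target away from `Z` -/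
def LocZeroOff (F : CohTop.Ab X) (q : ℕ) (Z : Set Y) : Prop :=
  ∀ (U : Opens Y) (s : E F q ((Opens.map f).obj U)) (y : Y), y ∈ U → y ∉ Z →
    ∃ (V : Opens Y) (hV : V ≤ U), y ∈ V ∧ eres F q ((Opens.map f).monotone hV) s = 0

theorem locZeroOff_X₃ {F : CohTop.Ab X} {q : ℕ} {Z : Set Y} (h : LocZeroOff f F (q + 2) Z) :
    LocZeroOff f (injSES F).X₃ (q + 1) Z := by
  intro U s y hy hyZ
  have hS := injSES_shortExact F
  obtain ⟨V, hV, hyV, h0⟩ := h U (δ hS (rfl : q + 1 + 1 = q + 2) _ s) y hy hyZ
  refine ⟨V, hV, hyV, (δ_bijective hS (rfl : q + 1 + 1 = q + 2) _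
    (subsingleton_E_of_injective (Injective.under F) q _)
    (subsingleton_E_of_injective (Injective.under F) (q + 1) _)).1 ?_⟩
  exact (eres_δ hS (rfl : q + 1 + 1 = q + 2) _ s).symm.trans (h0.trans (map_zero _).symm)

/-- the direct image of the map to the cokernel -/
abbrev pg (F : CohTop.Ab X) : (CohTop.push f).obj (injSES F).X₂ ⟶ (CohTop.push f).obj (injSES F).X₃ :=
  (CohTop.push f).map (injSES F).g

/-- its cokernel has no stalks away from the first bad set -/
theorem isZero_stalk_coker {F : CohTop.Ab X} {Z : Set Y} (h : LocZeroOff f F 1 Z) (y : Y) (hy : y ∉ Z) :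
    IsZero (CohTop.stalk (cokernel (pg f F)) y) := by
  have hS := injSES_shortExact F
  have hsub : Subsingleton (TopCat.Presheaf.stalk (C := AddCommGrpCat.{u}) (cokernel (pg f F)).obj y) := by
    refine subsingleton_of_forall_eq 0 fun t => ?_
    obtain ⟨U, hyU, r, rfl⟩ := TopCat.Presheaf.exists_germ_eq _ t
    obtain ⟨W, hW, c, hsup, hc⟩ := exists_local_preimage (cokernel.π (pg f F)) U r
    obtain ⟨⟨x, hxU⟩, hx⟩ := Opens.mem_iSup.1 (hsup.ge hyU)
    set s : (injSES F).X₃.obj.obj (op ((Opens.map f).obj (W ⟨x, hxU⟩))) := c ⟨x, hxU⟩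
    obtain ⟨V, hV, hyV, h0⟩ := h (W ⟨x, hxU⟩)
      (δ hS (zero_add 1) _ ((E₀ (injSES F).X₃ ((Opens.map f).obj (W ⟨x, hxU⟩))).symm s)) y hx hy
    erw [eres_δ] at h0
    obtain ⟨z, hz⟩ := exact₃ hS (zero_add 1) _ _ h0
    have hle : V ≤ U := hV.trans (hW _)
    rw [← TopCat.Presheaf.germ_res_apply _ (homOfLE hle) y hyV r]
    have e1 : (pg f F).hom.app (op V) (E₀ (injSES F).X₂ ((Opens.map f).obj V) z) =
        ((CohTop.push f).obj (injSES F).X₃).obj.map (homOfLE hV).op s :=
      ((E₀_emap (injSES F).g _ z).symm.trans (congrArg (E₀ _ _) hz)).trans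
        ((E₀_eres _ _ _).trans (congrArg _ ((E₀ (injSES F).X₃ ((Opens.map f).obj (W ⟨x, hxU⟩))).apply_symm_apply s)))
    have e2 : (cokernel (pg f F)).obj.map (homOfLE hle).op r = 0 := by
      rw [show (homOfLE hle).op = (homOfLE (hW ⟨x, hxU⟩)).op ≫ (homOfLE hV).op from Subsingleton.elim _ _,
        Functor.map_comp, AddCommGrpCat.comp_apply, ← hc ⟨x, hxU⟩]
      erw [← NatTrans.naturality_apply (cokernel.π (pg f F)).hom (homOfLE hV).op s]
      erw [← e1]
      exact ConcreteCategory.congr_hom (NatTrans.congr_app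
        (congrArg (fun φ => φ.hom) (cokernel.condition (pg f F))) (op V)) _
    rw [e2, map_zero]
  exact AddCommGrpCat.isZero_of_subsingleton _

/-- **Vanishing** of the cohomology of the source in one degree. -/
theorem subsingleton_of_leray : ∀ (d : ℕ) (F : CohTop.Ab X) (Z : ℕ → Set Y),
    (∀ q, q + 1 ≤ d → LocZeroOff f F (q + 1) (Z (q + 1))) →
    (∀ q, q + 1 ≤ d → ∀ G : CohTop.Ab Y, (∀ y, y ∉ Z (q + 1) → IsZero (CohTop.stalk G y)) →
      Subsingleton (E G (d - (q + 1)) ⊤)) →
    Subsingleton (E ((CohTop.push f).obj F) d ⊤) →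
    Subsingleton (E F d ((Opens.map f).obj ⊤))
  | 0, F, _, _, _, h0 =>
    ((E₀ F ((Opens.map f).obj ⊤)).trans (E₀ ((CohTop.push f).obj F) ⊤).symm).toEquiv.subsingleton
  | d + 1, F, Z, hloc, hvan, h0 => by
    have hS := injSES_shortExact F
    have hS' : (ShortComplex.mk ((CohTop.push f).map (injSES F).f) (pg f F)
        (by rw [← Functor.map_comp, (injSES F).zero, Functor.map_zero])).Exact := by
      have := hS.mono_f
      have : PreservesLimitsOfSize.{0, 0} (CohTop.push f) :=
        (TopCat.Sheaf.pullbackPushforwardAdjunction AddCommGrpCat.{u} f).rightAdjoint_preservesLimits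
      exact ShortComplex.exact_of_f_is_kernel _ (KernelFork.mapIsLimit _ hS.fIsKernel (CohTop.push f))
    haveI : Mono ((CohTop.push f).map (injSES F).f) := by
      have := hS.mono_f
      have : PreservesLimitsOfSize.{0, 0} (CohTop.push f) :=
        (TopCat.Sheaf.pullbackPushforwardAdjunction AddCommGrpCat.{u} f).rightAdjoint_preservesLimits
      exact (CohTop.push f).map_mono _
    -- the two short exact sequences
    let e := Abelian.factorThruImage (pg f F)
    let i := Abelian.image.ι (pg f F)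
    have hei : e ≫ i = pg f F := Abelian.image.fac _
    have he : (CohTop.push f).map (injSES F).f ≫ e = 0 := by
      rw [← cancel_mono i, Category.assoc, hei, zero_comp, ← Functor.map_comp, (injSES F).zero, Functor.map_zero]
    let S₁ := ShortComplex.mk ((CohTop.push f).map (injSES F).f) e he
    have h₁ : S₁.ShortExact :=
      { exact := by
          let φ : S₁ ⟶ ShortComplex.mk ((CohTop.push f).map (injSES F).f) (pg f F)
              (by rw [← Functor.map_comp, (injSES F).zero, Functor.map_zero]) :=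
            { τ₁ := 𝟙 _, τ₂ := 𝟙 _, τ₃ := i, comm₂₃ := by simpa [S₁] using hei.symm }
          haveI : Mono φ.τ₃ := inferInstanceAs (Mono (Abelian.image.ι _))
          exact (ShortComplex.exact_iff_of_epi_of_isIso_of_mono φ).2 hS'
        mono_f := inferInstance
        epi_g := inferInstanceAs (Epi (Abelian.factorThruImage _)) }
    let S₂ := ShortComplex.mk i (cokernel.π (pg f F)) (kernel.condition _)
    have h₂ : S₂.ShortExact :=
      { exact := ShortComplex.exact_of_f_is_kernel _ (kernelIsKernel (cokernel.π (pg f F)))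
        mono_f := inferInstanceAs (Mono (Abelian.image.ι _))
        epi_g := inferInstanceAs (Epi (cokernel.π _)) }
    have hR : Subsingleton (E (cokernel (pg f F)) d ⊤) := by
      have := hvan 0 (by omega) (cokernel (pg f F)) fun y hy => isZero_stalk_coker f (hloc 0 (by omega)) y hy
      simpa using this
    haveI hflq : TopCat.Sheaf.IsFlasque ((CohTop.push f).obj (injSES F).X₂) :=
      @TopCat.Sheaf.IsFlasque.pushforward_isFlasque _ _ _ _ (injSES F).X₂
        (isFlasque_of_injective (Injective.under F)) f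
    have hI : ∀ p, Subsingleton (E S₁.X₂ (p + 1) ⊤) := fun p =>
      subsingleton_E_of_isFlasque p ((CohTop.push f).obj (injSES F).X₂) ⊤
    -- cohomology of the direct image of the cokernel
    have hC : ∀ x : E ((CohTop.push f).obj (injSES F).X₃) d ⊤, ∃ y : E S₁.X₂ d ⊤, emap (pg f F) d ⊤ y = x := by
      intro x
      obtain ⟨z, rfl⟩ := exact₂ h₂ d ⊤ x (hR.elim _ _)
      obtain ⟨y, rfl⟩ := exact₃ h₁ (rfl : d + 1 = d + 1) ⊤ z (h0.elim _ _)
      refine ⟨y, ?_⟩
      show y.comp (Ext.mk₀ _) (add_zero d) = (y.comp (Ext.mk₀ e) (add_zero d)).comp (Ext.mk₀ i) (add_zero d)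
      rw [Ext.comp_assoc _ _ _ (add_zero d) (add_zero 0) (by simp), Ext.mk₀_comp_mk₀, hei]
    refine subsingleton_of_forall_eq 0 fun x => ?_
    obtain ⟨c, rfl⟩ := exact₁ hS (rfl : d + 1 = d + 1) _ x
      ((subsingleton_E_of_injective (Injective.under F) d _).elim _ _)
    cases d with
    | zero =>
      obtain ⟨y, hy⟩ := hC ((E₀ ((CohTop.push f).obj (injSES F).X₃) ⊤).symm
        (show ((CohTop.push f).obj (injSES F).X₃).obj.obj (op ⊤) from E₀ (injSES F).X₃ ((Opens.map f).obj ⊤) c))
      have h1 : c = emap (injSES F).g 0 ((Opens.map f).obj ⊤) ((E₀ (injSES F).X₂ _).symm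
          (show (injSES F).X₂.obj.obj (op ((Opens.map f).obj ⊤)) from E₀ ((CohTop.push f).obj (injSES F).X₂) ⊤ y)) := by
        apply (E₀ (injSES F).X₃ _).injective
        rw [E₀_emap, AddEquiv.apply_symm_apply]
        have h2 := congrArg (E₀ ((CohTop.push f).obj (injSES F).X₃) ⊤) hy
        rw [E₀_emap, AddEquiv.apply_symm_apply] at h2
        exact h2.symm
      rw [h1]
      exact δ_emap_g hS _ _ _
    | succ d =>
      have hCd : Subsingleton (E ((CohTop.push f).obj (injSES F).X₃) (d + 1) ⊤) := subsingleton_of_forall_eq 0 fun x => by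
        obtain ⟨y, rfl⟩ := hC x
        rw [(hI d).elim y 0, map_zero]
      have := subsingleton_of_leray (d + 1) (injSES F).X₃ (fun q => Z (q + 1))
        (fun q hq => locZeroOff_X₃ f (hloc (q + 1) (by omega)))
        (fun q hq G hG => by
          have := hvan (q + 1) (by omega) G hG
          rwa [show d + 1 - (q + 1) = d + 1 + 1 - (q + 1 + 1) by omega])
        hCd
      rw [this.elim c 0, map_zero]

/-- The form for Noetherian targets: the bad sets are small. -/
theorem subsingleton_of_dim [NoetherianSpace Y] (d : ℕ) (F : CohTop.Ab X) (Z : ℕ → Set Y)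
    (hZ : ∀ q, IsClosed (Z q)) (hloc : ∀ q, q + 1 ≤ d → LocZeroOff f F (q + 1) (Z (q + 1)))
    (hd : ∀ q, q + 1 ≤ d → (Z (q + 1) = ∅ ∨ ∃ e, e + (q + 1) < d ∧ topologicalKrullDim (Z (q + 1)) ≤ (e : WithBot ℕ∞)))
    (h0 : Subsingleton (E ((CohTop.push f).obj F) d ⊤)) : Subsingleton (E F d ((Opens.map f).obj ⊤)) := by
  refine subsingleton_of_leray f d F Z hloc (fun q hq G hG => ?_) h0
  rcases hd q hq with he | ⟨e, hlt, hle⟩
  · have hG0 : IsZero G := by
      rw [IsZero.iff_id_eq_zero]
      apply (sheafToPresheaf _ _).map_injective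
      ext U s
      refine TopCat.Presheaf.section_ext (X := Y) (C := AddCommGrpCat.{u}) G U.unop _ _ fun y hy => ?_
      exact @Subsingleton.elim _ (AddCommGrpCat.subsingleton_of_isZero (hG y (by rw [he]; exact id))) _ _
    exact subsingleton_of_forall_eq 0 fun x => by
      rw [← Ext.comp_mk₀_id x, (IsZero.iff_id_eq_zero _).1 hG0, Ext.mk₀_zero, Ext.comp_zero]
  · obtain ⟨p, hp⟩ : ∃ p, d - (q + 1) = p + 1 := ⟨d - (q + 1) - 1, by omega⟩
    rw [hp]
    have hH := Var76.subsingleton_H_of_supp G (hZ (q + 1)) hG hle (p + 1) (by omega)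
    exact (HEquivTop G (p + 1)).symm.toEquiv.subsingleton

end Groth.Agent.Licht93.LerayVanish
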