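import Groth.Agent.Licht93.ProjCore
import Groth.Agent.VarGal.ProjDim
import Groth.Agent.Var76.HypCover
import Groth.Agent.EGA73.GammaStarIso
import Groth.Agent.GSS45.ClosedHom
import Groth.Agent.ZClos93.Flat
import Groth.Agent.QC70.FiniteType
import Groth.Agent.QC70.PushClosed
import Groth.Agent.Coh69.Push
import Groth.Agent.Curves2.ProjLineProper

/-!
# Top cohomology of integral projective schemes and of their proper open subschemes
-/

set_option autoImplicit false
set_option maxHeartbeats 1000000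

universe u

open CategoryTheory Limits AlgebraicGeometry TopologicalSpace Opposite CategoryTheory.Abelian

noncomputable section

namespace Groth.Agent.Licht93.Projective

attribute [local instance] MvPolynomial.gradedAlgebra

open TopCech ConeLocal
open Groth.Agent.LC17

variable {k : Type u} [Field k] {n : ℕ}

/-- cohomology on an open only depends on the sheaf up to isomorphism -/
theorem HE_congr {X : TopCat.{u}} {F G : Sheaf (Opens.grothendieckTopology X) AddCommGrpCat.{u}} (e : F ≅ G)
    (q : ℕ) (W : Opens X) (h : Subsingleton (Coh69.HE F q W)) : Subsingleton (Coh69.HE G q W) :=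
  subsingleton_of_forall_eq 0 fun x => by
    rw [← Ext.comp_mk₀_id x, ← e.inv_hom_id, ← Ext.mk₀_comp_mk₀,
      ← Ext.comp_assoc _ _ _ (add_zero q) (add_zero 0) (by simp),
      h.elim (x.comp (Ext.mk₀ e.inv) (add_zero q)) 0, Ext.zero_comp]

/-- cohomology of a direct image along a closed immersion -/
theorem HE_push {X P : Scheme.{u}} (i : X ⟶ P) [IsClosedImmersion i] (G : X.Modules) [G.IsQuasicoherent]
    (q : ℕ) (W : P.Opens) :
    Nonempty (Coh69.HE (Coh.toAb G) q (i ⁻¹ᵁ W) ≃+
      Coh69.HE (Coh.toAb ((Scheme.Modules.pushforward i).obj G)) q W) :=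
  Coh69.leray i.base {V | IsAffineOpen (X := P) V} P.isBasis_affineOpens (Coh.toAb G)
    (fun V (hV : IsAffineOpen (X := P) V) m => Coh69.qcoh_subsingleton_HE G (V := i ⁻¹ᵁ V) (hV.preimage i) m) q W

/-- a function with empty trace kills direct images from reduced schemes -/
theorem smul_eq_zero_of_preimage_eq_bot {X P : Scheme.{u}} [IsReduced X] (i : X ⟶ P) (G : X.Modules) (U : P.Opens)
    (r : Γ(P, U)) (h : i ⁻¹ᵁ P.basicOpen r = ⊥) (σ : Γ((Scheme.Modules.pushforward i).obj G, U)) : r • σ = 0 := by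
  refine (QCqs72.pushforward_smul G i r σ).trans ?_
  have h0 : i.app U r = 0 := by
    rw [← basicOpen_eq_bot_iff, ← Scheme.preimage_basicOpen, h]
  rw [h0]
  exact zero_smul Γ(X, i ⁻¹ᵁ U) (show Γ(G, i ⁻¹ᵁ U) from σ)

variable {X : Scheme.{u}} [IsIntegral X] (i : X ⟶ CohB1.ProjSpace n k) [IsClosedImmersion i]

/-- the point -/
abbrev gpt : ProjectiveSpectrum (CohB1.polyGrading n k) := i (genericPoint X)

/-- the homogeneous prime -/
abbrev hprime : Ideal (MvPolynomial (Fin (n + 1)) k) := (gpt i).asHomogeneousIdeal.toIdeal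

theorem closure_gpt : closure ({gpt i} : Set (ProjectiveSpectrum (CohB1.polyGrading n k))) = Set.range i := by
  show closure ({i (genericPoint X)} : Set ↥(CohB1.ProjSpace n k)) = Set.range i
  rw [← Set.image_singleton, i.isClosedEmbedding.closure_image_eq, genericPoint_closure, Set.image_univ]

theorem hprime_le (y : X) : hprime i ≤ (show ProjectiveSpectrum (CohB1.polyGrading n k) from i y).asHomogeneousIdeal.toIdeal :=
  (ProjectiveSpectrum.le_iff_mem_closure (CohB1.polyGrading n k) (gpt i) _).2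
    (by rw [closure_gpt]; exact ⟨y, rfl⟩)

theorem exists_eq_of_le (q : ProjectiveSpectrum (CohB1.polyGrading n k))
    (h : hprime i ≤ q.asHomogeneousIdeal.toIdeal) : ∃ y : X, i y = q := by
  have := (ProjectiveSpectrum.le_iff_mem_closure (CohB1.polyGrading n k) (gpt i) q).1 h
  rwa [closure_gpt] at this

theorem height_vertex {m : ℕ} (hdim : topologicalKrullDim X = (m : WithBot ℕ∞)) :
    (vertex (hprime i)).height = (m + 1 : ℕ) := by
  have h1 := VarGal.projDim_closure (gpt i)
  rw [closure_gpt i] at h1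
  have h2 : topologicalKrullDim ↥(Set.range i) = topologicalKrullDim X :=
    (IsHomeomorph.topologicalKrullDim_eq _ i.isClosedEmbedding.isEmbedding.toHomeomorph.isHomeomorph).symm
  replace h1 := (h2.trans hdim).symm.trans h1
  have h3 : VarGal.coneDim (gpt i) = m + 1 := by
    have h4 : m = VarGal.coneDim (gpt i) - 1 := by exact_mod_cast h1
    have := VarGal.one_le_coneDim (gpt i)
    omega
  haveI : (hprime i).IsPrime := (gpt i).isPrime
  have h5 : LC17.Cone.origin k (n + 1) = VarGal.vertexIdeal k n := rfl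
  haveI : (LC17.Cone.origin k (n + 1)).IsMaximal := h5 ▸ inferInstance
  have h6 := CAlgH2.height_add_trdegQuot k (hprime i) (LC17.Cone.origin k (n + 1))
    (LC17.Cone.le_origin (gpt i).asHomogeneousIdeal.isHomogeneous (gpt i).isPrime.ne_top)
  rw [CAlgH2.trdegQuot_maximal, Nat.cast_zero, add_zero] at h6
  rw [vertex, h6]
  exact_mod_cast h3

theorem basicOpen_pre_eq_bot {f : MvPolynomial (Fin (n + 1)) k} (hf : f ∈ hprime i) :
    i ⁻¹ᵁ Proj.basicOpen (CohB1.polyGrading n k) f = ⊥ :=
  eq_bot_iff.2 fun y hy => hy (hprime_le i y hf)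

/-- The forms: `m + 2` hypersurfaces whose traces cover exactly an open. -/
theorem exists_forms {m : ℕ} (hdim : topologicalKrullDim X = (m + 1 : ℕ)) (V : X.Opens) :
    ∃ (f : ℕ → MvPolynomial (Fin (n + 1)) k) (d : ℕ → ℕ), (∀ j, 0 < d j) ∧
      (∀ j, f j ∈ CohB1.polyGrading n k (d j)) ∧
      i ⁻¹ᵁ TopSheaf.sU (ProjCore.cov f) (m + 1) = V ∧
      ∀ y : X, y ∉ V → ∀ j, j ≤ m + 1 → f j ∈ (show ProjectiveSpectrum (CohB1.polyGrading n k) from i y).asHomogeneousIdeal := by
  haveI : LocallyOfFiniteType (CohB1.ProjSpace.toSpec n k) :=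
    haveI := Curves2.ProjLine.isProper_toSpec k n
    inferInstance
  haveI : QuasiCompact (CohB1.ProjSpace.toSpec n k) :=
    haveI := Curves2.ProjLine.isProper_toSpec k n
    inferInstance
  obtain ⟨g, hg, hgY, hgc⟩ := Var76.HypCover.exists_cover i (i '' (V : Set X)ᶜ)
    (i.isClosedEmbedding.isClosedMap _ V.2.isClosed_compl) (m + 1) hdim.le
  choose dg hdg0 hdg using hg
  refine ⟨fun j => if h : j < m + 2 then g ⟨j, h⟩ else MvPolynomial.X 0,
    fun j => if h : j < m + 2 then dg ⟨j, h⟩ else 1, fun j => by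
      show 0 < dite _ _ _
      split_ifs
      exacts [hdg0 _, one_pos], fun j => by
      show dite _ _ _ ∈ CohB1.polyGrading n k (dite _ _ _)
      split_ifs
      exacts [hdg _, MvPolynomial.isHomogeneous_X k 0], ?_, fun y hy j hj => ?_⟩
  · have hmem : ∀ (U : ℕ → (CohB1.ProjSpace n k).Opens) (l : ℕ) (q : ↥(CohB1.ProjSpace n k)),
        q ∈ TopSheaf.sU U l ↔ ∃ j, j ≤ l ∧ q ∈ U j := by
      intro U l
      induction l with
      | zero => exact fun q => ⟨fun h => ⟨0, le_rfl, h⟩, fun ⟨j, hj, h⟩ => by obtain rfl := Nat.le_zero.1 hj; exact h⟩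
      | succ l ih =>
        intro q
        show q ∈ TopSheaf.sU U l ⊔ U (l + 1) ↔ _
        constructor
        · rintro (h | h)
          · obtain ⟨j, hj, hq⟩ := (ih q).1 h
            exact ⟨j, by omega, hq⟩
          · exact ⟨l + 1, le_rfl, h⟩
        · rintro ⟨j, hj, h⟩
          rcases Nat.lt_or_eq_of_le hj with hlt | rfl
          · exact Or.inl ((ih q).2 ⟨j, by omega, h⟩)
          · exact Or.inr h
    refine Opens.ext (Set.ext fun y => ?_)
    show i y ∈ TopSheaf.sU _ (m + 1) ↔ y ∈ V
    refine Iff.trans (hmem _ _ _) ?_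
    constructor
    · rintro ⟨j, hj, h⟩
      by_contra hy
      have hj' : j < m + 2 := by omega
      simp only [ProjCore.cov, dif_pos hj'] at h
      exact hgY ⟨j, hj'⟩ ⟨y, hy, rfl⟩ h
    · intro hy
      obtain ⟨l, hl⟩ := hgc y fun ⟨y', hy', e⟩ => hy' (i.injective e ▸ hy)
      refine ⟨l, Nat.le_of_lt_succ l.2, ?_⟩
      simp only [ProjCore.cov, dif_pos l.2]
      exact hl
  · have hj' : j < m + 2 := by omega
    have := hgY ⟨j, hj'⟩ (Set.mem_image_of_mem i hy)
    simp only [dif_pos hj']
    exact not_not.1 this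

/-- Vanishing for a quasi-coherent module on projective space killed by a prime. -/
theorem subsingleton_of_killed (f : ℕ → MvPolynomial (Fin (n + 1)) k) (d : ℕ → ℕ) (hd : ∀ j, 0 < d j)
    (hf : ∀ j, f j ∈ CohB1.polyGrading n k (d j)) (m : ℕ) (p : Ideal (MvPolynomial (Fin (n + 1)) k))
    (hp : p.IsPrime) (hh : p.IsHomogeneous (CohB1.polyGrading n k)) (hlen : (vertex p).height ≤ (m + 2 : ℕ))
    (q : ProjectiveSpectrum (CohB1.polyGrading n k)) (hpq : p ≤ q.asHomogeneousIdeal.toIdeal)
    (hfq : ∀ j, j ≤ m + 1 → f j ∈ q.asHomogeneousIdeal)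
    (F : (Proj (CohB1.polyGrading n k)).Modules) (hFq : Coh.IsQCoh F)
    (hkill : ∀ (g : MvPolynomial (Fin (n + 1)) k) (hg : g ∈ CohB1.polyGrading n k 1) (j : ℕ)
      (a : MvPolynomial (Fin (n + 1)) k) (haj : a ∈ CohB1.polyGrading n k j), a ∈ p →
      ∀ σ : Γ(F, Proj.basicOpen (CohB1.polyGrading n k) g),
        EGA73.GammaStar.fr (CohB1.polyGrading n k) hg haj • σ = 0) :
    Subsingleton (Coh69.HE (Coh.toAb F) (m + 1) (TopSheaf.sU (ProjCore.cov f) (m + 1))) := by
  classical
  let s : Finset (MvPolynomial (Fin (n + 1)) k) := Finset.univ.image MvPolynomial.X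
  have hs1 : ∀ g ∈ s, g ∈ CohB1.polyGrading n k 1 := fun g hg => by
    obtain ⟨j, -, rfl⟩ := Finset.mem_image.1 hg
    exact MvPolynomial.isHomogeneous_X k j
  have hcov : ∀ x : Proj (CohB1.polyGrading n k), ∃ g : s, x ∈ Proj.basicOpen (CohB1.polyGrading n k) (g : _) := by
    intro x
    by_contra h
    push Not at h
    refine x.not_irrelevant_le fun a ha => VarGal.vertexIdeal_le (fun j => ?_) ?_
    · exact not_not.1 (h ⟨MvPolynomial.X j, Finset.mem_image_of_mem _ (Finset.mem_univ j)⟩)
    · rw [HomogeneousIdeal.mem_irrelevant_iff, GradedRing.proj_apply,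
        show (DirectSum.decompose (CohB1.polyGrading n k) a 0 : MvPolynomial (Fin (n + 1)) k) =
          MvPolynomial.homogeneousComponent 0 a from MvPolynomial.decomposition.decompose'_apply a 0,
        MvPolynomial.homogeneousComponent_zero, MvPolynomial.C_eq_zero] at ha
      exact RingHom.mem_ker.2 ha
  obtain ⟨e⟩ := EGA73.GammaStar.nonempty_iso_top (hs1 := hs1) hFq hcov
  let N := EGA73.GammaStar.Sub.top (CohB1.polyGrading n k) s hs1 F
  have hhom : ∀ (j : ℕ) (a : MvPolynomial (Fin (n + 1)) k), a ∈ CohB1.polyGrading n k j → a ∈ p →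
      ∀ w : N.Ty, a • w = 0 := by
    intro j a haj hap w
    refine EGA73.GammaStar.ty_ext N fun g l => ?_
    rw [EGA73.GammaStar.coe_smul_apply N haj]
    show _ = 0
    split_ifs
    · exact hkill _ (hs1 g g.2) j a haj hap _
    · rfl
  have hkill' : ∀ a ∈ p, ∀ w : N.Ty, a • w = 0 := by
    intro a ha w
    rw [← DirectSum.sum_support_decompose (CohB1.polyGrading n k) a, Finset.sum_smul]
    exact Finset.sum_eq_zero fun j _ => hhom j _ (DirectSum.decompose (CohB1.polyGrading n k) a j).2 (hh j ha) w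
  exact HE_congr ((SheafOfModules.toSheaf _).mapIso e) (m + 1) _
    (ProjCore.subsingleton_of_common_zero (ℳ := N.grading) f d hd hf m p hp hh hkill' hlen q hpq hfq)

include i in
/-- **Vanishing** on a proper open subset. -/
theorem subsingleton_top {m : ℕ} (hdim : topologicalKrullDim X = (m + 1 : ℕ)) (V : X.Opens) (hV : V ≠ ⊤)
    (G : X.Modules) [G.IsQuasicoherent] : Subsingleton (Coh69.HE (Coh.toAb G) (m + 1) V) := by
  classical
  obtain ⟨f, d, hd, hf, hpre, hzero⟩ := exists_forms i hdim V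
  obtain ⟨y₀, hy₀⟩ : ∃ y, y ∉ V := by
    by_contra h
    push Not at h
    exact hV (Opens.ext (Set.eq_univ_of_forall h))
  haveI hFq : ((Scheme.Modules.pushforward i).obj G).IsQuasicoherent :=
    QCqs72.isQuasicoherent_pushforward (M := G) i
  have hcore := subsingleton_of_killed f d hd hf m (hprime i) (gpt i).isPrime
    (gpt i).asHomogeneousIdeal.isHomogeneous (height_vertex i hdim).le
    (i y₀) (hprime_le i y₀) (fun j hj => hzero y₀ hy₀ j hj) ((Scheme.Modules.pushforward i).obj G) hFq
    (fun g hg j a haj hap σ => by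
      have hb := EGA73.proj_basicOpen_eq (𝒜 := CohB1.polyGrading n k) (d := 1)
        (EGA73.GammaStar.fr (CohB1.polyGrading n k) hg haj) (l := j) (a := a)
        ((mul_one j).symm ▸ haj : a ∈ CohB1.polyGrading n k (j * 1))
        (by simpa using SetLike.pow_mem_graded j hg) (fun x => by
          rw [EGA73.GammaStar.fr_apply]
          exact HomogeneousLocalization.val_injective _ (by simp [EGA73.a0Frac]))
      refine smul_eq_zero_of_preimage_eq_bot (P := CohB1.ProjSpace n k) i G _ _ ?_ σ
      erw [hb]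
      exact basicOpen_pre_eq_bot i (Ideal.mul_mem_left _ _ hap))
  obtain ⟨eL⟩ := HE_push i G (m + 1) (TopSheaf.sU (ProjCore.cov f) (m + 1))
  have := @Equiv.subsingleton _ _ eL.toEquiv hcore
  rwa [hpre] at this

include i in
/-- An integral projective scheme of positive dimension has nonzero top cohomology. -/
theorem exists_coh_not_subsingleton {m : ℕ} (hdim : topologicalKrullDim X = (m + 1 : ℕ)) :
    ∃ G : X.Modules, Coh.IsCoh G ∧ ¬ Subsingleton (Coh69.HE (Coh.toAb G) (m + 1) (⊤ : X.Opens)) := by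
  classical
  obtain ⟨f, d, hd, hf, hpre, -⟩ := exists_forms i hdim ⊤
  haveI hp : (hprime i).IsPrime := (gpt i).isPrime
  have hh : (hprime i).IsHomogeneous (CohB1.polyGrading n k) := (gpt i).asHomogeneousIdeal.isHomogeneous
  have horig : ∀ j, f j ∈ LC17.Cone.origin k (n + 1) := fun j => VarGal.mem_vertexIdeal_of_isHomogeneous (hf j) (hd j)
  have hcut : ∀ q : Ideal (MvPolynomial (Fin (n + 1)) k), q.IsPrime → hprime i ≤ q →
      (∀ g ∈ (List.range (m + 2)).map f, g ∈ q) → LC17.Cone.origin k (n + 1) ≤ q := by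
    intro q hq hpq hfq
    by_contra hne
    haveI := hq
    obtain ⟨q', hq', hle⟩ := Ideal.exists_minimalPrimes_le
      (I := hprime i ⊔ Ideal.span (Set.range fun j : Fin (m + 2) => f j)) (J := q)
      (sup_le hpq (Ideal.span_le.2 (by
        rintro _ ⟨j, rfl⟩
        exact hfq _ (List.mem_map.2 ⟨j, List.mem_range.2 j.2, rfl⟩))))
    haveI := hq'.1.1
    have hq'h := VarGal.isHomogeneous_of_mem_minimalPrimes
      (hh.sup (VarGal.isHomogeneous_span (by rintro _ ⟨j, rfl⟩; exact ⟨_, hf j⟩))) hq'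
    have h1 : 1 ≤ CAlgH2.trdegQuot k q' := by
      by_contra h0
      have hle' : q' ≤ LC17.Cone.origin k (n + 1) := LC17.Cone.le_origin hq'h hq'.1.1.ne_top
      refine hne (le_trans ?_ hle)
      by_contra hne'
      haveI : (LC17.Cone.origin k (n + 1)).IsMaximal := (inferInstance : (VarGal.vertexIdeal k n).IsMaximal)
      have := VarGal.trdegQuot_lt (lt_of_le_of_ne hle' fun e => hne' e.ge)
      omega
    obtain ⟨y, hy⟩ := exists_eq_of_le i (VarGal.mkPoint q' hq'h h1) (le_sup_left.trans hq'.1.2)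
    have hmem : y ∈ i ⁻¹ᵁ TopSheaf.sU (ProjCore.cov f) (m + 1) := hpre.ge trivial
    have hnot : ∀ l ≤ m + 1, i y ∉ TopSheaf.sU (ProjCore.cov f) l := by
      intro l hl
      have hfj : ∀ j, j ≤ m + 1 → i y ∉ ProjCore.cov f j := fun j hj h => h (by
        rw [hy]
        exact hq'.1.2 (Ideal.mem_sup_right (Ideal.subset_span ⟨⟨j, by omega⟩, rfl⟩)))
      induction l with
      | zero => exact hfj 0 hl
      | succ l ih => exact fun h => h.elim (ih (by omega)) (hfj (l + 1) hl)
    exact hnot (m + 1) le_rfl hmem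
  obtain ⟨N, e, x, hx, hnd⟩ := ConeVanish.exists_not_dec (hprime i) hp hh ((List.range (m + 2)).map f)
    (by rw [height_vertex i hdim]; simp [add_assoc]) hcut
    (fun g hg => by obtain ⟨j, -, rfl⟩ := List.mem_map.1 hg; exact horig j)
  -- the graded module `S / p`
  let P := (gpt i).asHomogeneousIdeal
  let ℳ := EGA73.GradedQuot.grading (CohB1.polyGrading n k) P
  haveI : SetLike.GradedSMul (CohB1.polyGrading n k) ℳ := ⟨fun {j l a b} ha hb => by
    obtain ⟨b, hb', rfl⟩ := hb
    exact ⟨a * b, SetLike.mul_mem_graded ha hb', map_mul (Ideal.Quotient.mk P.toIdeal) a b⟩⟩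
  let t : ℤ := (e : ℤ) - N * (∑ j ∈ Finset.range (m + 2), d j : ℕ)
  let T := GrTilde.tilde (CohB1.polyGrading n k) ℳ t
  have hns := ProjCore.not_subsingleton_of_not_dec (ℳ := ℳ) f d hd hf m (i := e) (N := N)
    (z := Ideal.Quotient.mk P.toIdeal x) (EGA73.GradedQuot.mk_mem _ P hx) t (by simp only [t]; ring) hnd
  haveI hTq : T.IsQuasicoherent := EGA73.isQCoh_tilde (CohB1.polyGrading n k) ℳ t
  haveI hTf : T.IsFiniteType := by
    refine QC70.isFiniteType_of_finite_sections T
      (fun j : ULift.{u} (Fin (n + 1)) => Proj.basicOpen (CohB1.polyGrading n k) (MvPolynomial.X j.down))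
      (TopologicalSpace.IsOpenCover.mk (eq_top_iff.2 fun q _ => Opens.mem_iSup.2 ?_))
      (fun j => Proj.isAffineOpen_basicOpen _ _ (MvPolynomial.isHomogeneous_X k j.down) one_pos) fun j => ?_
    · by_contra h
      push Not at h
      refine q.not_irrelevant_le fun a ha => VarGal.vertexIdeal_le (fun j => not_not.1 (h ⟨j⟩)) ?_
      rw [HomogeneousIdeal.mem_irrelevant_iff, GradedRing.proj_apply,
        show (DirectSum.decompose (CohB1.polyGrading n k) a 0 : MvPolynomial (Fin (n + 1)) k) =
          MvPolynomial.homogeneousComponent 0 a from MvPolynomial.decomposition.decompose'_apply a 0,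
        MvPolynomial.homogeneousComponent_zero, MvPolynomial.C_eq_zero] at ha
      exact RingHom.mem_ker.2 ha
    let g := MvPolynomial.X (R := k) j.down
    have hg : g ∈ CohB1.polyGrading n k 1 := MvPolynomial.isHomogeneous_X k j.down
    have hgp : ∀ l : ℕ, g ^ l ∈ CohB1.polyGrading n k l := fun l => by simpa using SetLike.pow_mem_graded l hg
    obtain ⟨i₀, k₀, hik, hk₀⟩ : ∃ i₀ k₀ : ℕ, (i₀ : ℤ) = k₀ + t ∧ (i₀ = 0 ∨ k₀ = 0) :=
      ⟨t.toNat, (-t).toNat, by omega, by omega⟩
    haveI : Module.Finite k (CohB1.polyGrading n k i₀) := Module.Finite.iff_fg.2 (MvPolynomial.homogeneousSubmodule_fg (Fin (n + 1)) k i₀)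
    obtain ⟨B, hB⟩ := (inferInstance : Module.Finite k (CohB1.polyGrading n k i₀)).fg_top
    let gen : B → Γ(T, Proj.basicOpen (CohB1.polyGrading n k) g) := fun b =>
      EGA73.fracSect (ℳ := ℳ) (U := ProjectiveSpectrum.basicOpen (CohB1.polyGrading n k) g)
        (EGA73.GradedQuot.mk_mem _ P b.1.2) (hgp k₀) (fun q => EGA73.pow_notMem q.2 k₀) (by exact hik)
    refine ⟨⟨B.attach.image gen, eq_top_iff.2 fun σ _ => ?_⟩⟩
    let L := Submodule.span Γ(Proj (CohB1.polyGrading n k), Proj.basicOpen (CohB1.polyGrading n k) g)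
      (↑(B.attach.image gen) : Set Γ(T, Proj.basicOpen (CohB1.polyGrading n k) g))
    show σ ∈ L
    obtain ⟨K, l', z, hz, hl', hσ⟩ := EGA73.exists_frac_eq one_pos hg
      (σ : GrTilde.sect (CohB1.polyGrading n k) ℳ t (op (ProjectiveSpectrum.basicOpen (CohB1.polyGrading n k) g)))
    obtain ⟨a, ha, rfl⟩ := hz
    obtain ⟨l, hlK, hli⟩ : ∃ l : ℕ, K = k₀ + l ∧ l' = i₀ + l := ⟨K - k₀, by omega, by omega⟩
    have hdeg : (l' : ℤ) = (K : ℤ) + t := by simpa using hl'
    let S : ↥(CohB1.polyGrading n k l') → Γ(T, Proj.basicOpen (CohB1.polyGrading n k) g) := fun c =>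
      EGA73.fracSect (ℳ := ℳ) (U := ProjectiveSpectrum.basicOpen (CohB1.polyGrading n k) g)
        (EGA73.GradedQuot.mk_mem _ P c.2) (hgp K) (fun q => EGA73.pow_notMem q.2 K) hdeg
    have hSadd : ∀ c c', S (c + c') = S c + S c' := fun c c' => by
      refine EGA73.sect_ext fun q => ?_
      show EGA73.frac q.1 (Ideal.Quotient.mk P.toIdeal ((c : MvPolynomial (Fin (n + 1)) k) + c')) (g ^ K) _ =
        EGA73.frac q.1 (Ideal.Quotient.mk P.toIdeal c) (g ^ K) (EGA73.pow_notMem q.2 K) +
        EGA73.frac q.1 (Ideal.Quotient.mk P.toIdeal c') (g ^ K) (EGA73.pow_notMem q.2 K)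
      simp only [EGA73.frac]
      rw [LocalizedModule.mk_add_mk]
      refine EGA73.frac_congr ?_
      simp [Submonoid.smul_def, map_add, smul_add, smul_smul]
    have hS0 : S 0 = 0 := by
      have h := hSadd 0 0
      rw [add_zero] at h
      exact left_eq_add.1 h
    have key : ∀ b ∈ CohB1.polyGrading n k i₀, ∀ c ∈ CohB1.polyGrading n k l,
        ∃ h : b * c ∈ CohB1.polyGrading n k l', S ⟨b * c, h⟩ ∈ L := by
      intro b hb c hc
      refine ⟨hli ▸ SetLike.mul_mem_graded hb hc, ?_⟩
      have hmem : (⟨b, hb⟩ : ↥(CohB1.polyGrading n k i₀)) ∈ Submodule.span k (B : Set _) := hB ▸ Submodule.mem_top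
      revert c
      generalize hb' : (⟨b, hb⟩ : ↥(CohB1.polyGrading n k i₀)) = b' at hmem
      obtain rfl : b = b'.1 := congrArg Subtype.val hb'
      clear hb'
      induction hmem using Submodule.span_induction with
      | mem b' hb' =>
        intro c hc
        have e : S ⟨b'.1 * c, hli ▸ SetLike.mul_mem_graded b'.2 hc⟩ =
            EGA73.GammaStar.fr (CohB1.polyGrading n k) hg hc • gen ⟨b', hb'⟩ := by
          refine EGA73.sect_ext fun q => ?_
          show EGA73.frac q.1 (Ideal.Quotient.mk P.toIdeal (b'.1 * c)) (g ^ K) _ =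
            (EGA73.a0Frac q.1 hc (hgp l) (EGA73.pow_notMem q.2 l)).val •
              EGA73.frac q.1 (Ideal.Quotient.mk P.toIdeal b'.1) (g ^ k₀) (EGA73.pow_notMem q.2 k₀)
          simp only [EGA73.a0Frac]
          erw [HomogeneousLocalization.val_mk]
          refine ((LocalizedModule.mk_smul_mk _ _ _ _).trans (EGA73.frac_congr ?_)).symm
          simp only [Submonoid.coe_mul]
          rw [hlK, pow_add, mul_comm (b'.1) c, map_mul, mul_comm (g ^ k₀)]
          rfl
        rw [e]
        exact Submodule.smul_mem _ _ (Submodule.subset_span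
          (Finset.mem_image_of_mem _ (Finset.mem_attach _ _)))
      | zero =>
        intro c hc
        convert zero_mem L
        refine Eq.trans (congrArg S (Subtype.ext ?_)) hS0
        simp
      | add x y _ _ hx hy =>
        intro c hc
        convert add_mem (hx x.2 c hc) (hy y.2 c hc)
        rw [← hSadd]
        exact congrArg S (Subtype.ext (by simp [add_mul]))
      | smul r x _ hx =>
        intro c hc
        convert hx x.2 (r • c) (Submodule.smul_mem _ r hc) using 1
        exact congrArg S (Subtype.ext (by simp))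
    have hmul : a ∈ CohB1.polyGrading n k i₀ * CohB1.polyGrading n k l := by
      have h := ha
      rw [hli] at h
      show a ∈ MvPolynomial.homogeneousSubmodule (Fin (n + 1)) k i₀ * MvPolynomial.homogeneousSubmodule (Fin (n + 1)) k l
      rw [← MvPolynomial.homogeneousSubmodule_one_pow (R := k) (n := i₀), ← MvPolynomial.homogeneousSubmodule_one_pow (R := k) (n := l), ← pow_add,
        MvPolynomial.homogeneousSubmodule_one_pow]
      exact h
    obtain ⟨h, hL⟩ : ∃ h : a ∈ CohB1.polyGrading n k l', S ⟨a, h⟩ ∈ L :=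
      Submodule.mul_induction_on hmul key fun x y ⟨hx, hx'⟩ ⟨hy, hy'⟩ =>
        ⟨add_mem hx hy, by convert add_mem hx' hy'; exact hSadd ⟨x, hx⟩ ⟨y, hy⟩⟩
    have hσ' : σ = S ⟨a, h⟩ := EGA73.sect_ext fun q => hσ q
    rwa [hσ']
  have hkilled : GSS45.Descend.IsKilled i T := by
    intro U a ha s
    refine EGA73.sect_ext fun q => ?_
    show ((HomogeneousLocalization.val (a.1 q)) • (s.1 q).1 :
      GrTilde.LocMod (CohB1.polyGrading n k) (M := MvPolynomial (Fin (n + 1)) k ⧸ P.toIdeal) q.1) = 0
    have hkq : ∀ c ∈ P.toIdeal, ∀ w : MvPolynomial (Fin (n + 1)) k ⧸ P.toIdeal, c • w = 0 := by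
      intro c hc w
      obtain ⟨w, rfl⟩ := Ideal.Quotient.mk_surjective w
      exact (Ideal.Quotient.eq_zero_iff_mem.2 (Ideal.mul_mem_right w _ hc) :)
    by_cases hle : P.toIdeal ≤ q.1.asHomogeneousIdeal.toIdeal
    · obtain ⟨V, hqV, ι, l, ⟨c, hc⟩, ⟨h, hh⟩, hnin, hval⟩ := a.2 q
      have hz : gpt i ∈ V :=
        ((VarGal.le_iff_specializes (gpt i) q.1).1 hle).mem_open V.2 hqV
      have hnb : gpt i ∉ (CohB1.ProjSpace n k).basicOpen a := by
        intro hb
        have h1 : genericPoint X ∈ i ⁻¹ᵁ (CohB1.ProjSpace n k).basicOpen a := hb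
        rw [Scheme.preimage_basicOpen, show i.app U.1 a = 0 from i.ideal_ker_le U ha, Scheme.basicOpen_zero] at h1
        exact h1
      have hcp : c ∈ P.toIdeal := by
        by_contra hcp
        apply hnb
        erw [Scheme.mem_basicOpen'']
        refine ⟨ι.le hz, ?_⟩
        apply (isUnit_map_iff (AlgebraicGeometry.Proj.stalkIso' (CohB1.polyGrading n k) (gpt i)) _).mp
        erw [AlgebraicGeometry.Proj.stalkIso'_germ]
        exact (congrArg IsUnit (hval ⟨gpt i, hz⟩)).mpr
          ((EGA73.isUnit_a0Frac_iff (gpt i) hc hh (hnin ⟨gpt i, hz⟩)).mpr hcp)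
      have h2 := hval ⟨q.1, hqV⟩
      rw [show (a.1 q : Twist.A0 (CohB1.polyGrading n k) q.1) = _ from h2,
        HomogeneousLocalization.val_mk]
      induction (s.1 q).1 using LocalizedModule.induction_on with
      | h w r =>
        rw [LocalizedModule.mk_smul_mk]
        refine (congrArg (fun v => LocalizedModule.mk v _) (hkq c hcp w)).trans (LocalizedModule.zero_mk _)
    · obtain ⟨b, hbP, hbq⟩ := SetLike.not_le_iff_exists.1 hle
      have h0 : ∀ v : GrTilde.LocMod (CohB1.polyGrading n k) (M := MvPolynomial (Fin (n + 1)) k ⧸ P.toIdeal) q.1,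
          v = 0 := fun v => by
        induction v using LocalizedModule.induction_on with
        | h w r =>
          rw [← LocalizedModule.zero_mk r, LocalizedModule.mk_eq]
          exact ⟨⟨b, hbq⟩, by simp only [Submonoid.smul_def, smul_zero, hkq b hbP]⟩
      exact h0 _
  let G := (Scheme.Modules.pullback i).obj T
  have hG : Coh.IsCoh G := ZClos93.isCoh_pullback i T ⟨hTq, hTf⟩
  refine ⟨G, hG, fun h => hns ?_⟩
  haveI := hG.1
  obtain ⟨eL⟩ := HE_push i G (m + 1) (TopSheaf.sU (ProjCore.cov f) (m + 1))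
  rw [← hpre] at h
  exact HE_congr ((SheafOfModules.toSheaf _).mapIso (GSS45.ClosedHom.pullPushIso i hkilled)) (m + 1) _
    eL.symm.toEquiv.subsingleton

end Groth.Agent.Licht93.Projective
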