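import Groth.Agent.Licht93.TwistPush
import Groth.Agent.Desc59.AmpleDesc
import Groth.Agent.QC70.HomMod
import Groth.Agent.Crv77.Degree

/-!
# `(𝔟 M) ⊗ N → 𝔟 (M ⊗ N)`
-/

set_option autoImplicit false
set_option backward.isDefEq.respectTransparency.types false
set_option maxSynthPendingDepth 6
set_option maxHeartbeats 1000000

universe u

open CategoryTheory CategoryTheory.Limits AlgebraicGeometry TopologicalSpace Opposite

noncomputable section

namespace Groth.Agent.Licht93.TwistMap

open QC70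

variable {X P : Scheme.{u}}

/-- `- ⊗ N` as a functor on modules. -/
def tn (N : X.Modules) : X.Modules ⥤ X.Modules := Mod48.tR (O := X.sheaf) N

theorem tn_obj (M N : X.Modules) : (tn N).obj M = CohB1.tensorMod M N := rfl

/-- Inverse images commute with `- ⊗ N`. -/
def pullTn (i : X ⟶ P) (N : P.Modules) :
    tn N ⋙ Scheme.Modules.pullback i ≅
      Scheme.Modules.pullback i ⋙ tn ((Scheme.Modules.pullback i).obj N) :=
  let e := ModSite.RMor.ofSchemePull i
  let r : X.Modules ⥤ X.Modules := Mod48.tR (O := X.sheaf) ((ModSite.RMor.ofScheme i).pull.obj N)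
  Functor.isoWhiskerLeft (Mod48.tR (O := P.sheaf) N) e.symm ≪≫
    SiteMod.pullTensIso (ModSite.RMor.ofScheme i) N ≪≫
    Functor.isoWhiskerRight e r ≪≫
    Functor.isoWhiskerLeft (Scheme.Modules.pullback i)
      ((ModSite.tensorBi X.sheaf).flip.mapIso (e.app N))

theorem preservesZero_tn (N : X.Modules) : (tn N).PreservesZeroMorphisms := by
  haveI : (tn N).IsLeftAdjoint := (QC70.homModAdjR N).isLeftAdjoint (F := (ModSite.tensorBi X.sheaf).flip.obj N)
  infer_instance

theorem pullback_map_tn_eq_zero (i : X ⟶ P) (N : P.Modules) {A B : P.Modules} (f : A ⟶ B)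
    (h : (Scheme.Modules.pullback i).map f = 0) :
    (Scheme.Modules.pullback i).map ((tn N).map f) = 0 := by
  haveI := preservesZero_tn ((Scheme.Modules.pullback i).obj N)
  have hn := (pullTn i N).hom.naturality f
  rw [Functor.comp_map, Functor.comp_map, h, Functor.map_zero, comp_zero] at hn
  rwa [← cancel_mono ((pullTn i N).hom.app B), zero_comp]

theorem isIso_pullback_map_tn (i : X ⟶ P) (N : P.Modules) {A B : P.Modules} (f : A ⟶ B)
    (h : IsIso ((Scheme.Modules.pullback i).map f)) :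
    IsIso ((Scheme.Modules.pullback i).map ((tn N).map f)) :=
  (NatIso.isIso_map_iff (pullTn i N) f).2
    (inferInstanceAs (IsIso ((tn _).map ((Scheme.Modules.pullback i).map f))))

theorem pullback_map_idealMulι (𝔟 : P.IdealSheafData) (M : P.Modules) :
    (Scheme.Modules.pullback 𝔟.subschemeι).map (Dual3.idealMulι 𝔟 M) = 0 := by
  let adj := Scheme.Modules.pullbackPushforwardAdjunction 𝔟.subschemeι
  refine (adj.homEquiv _ _).injective ?_
  rw [Adjunction.homEquiv_unit, Adjunction.homEquiv_unit, ← Functor.comp_map, ← adj.unit.naturality,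
    Functor.map_zero, comp_zero]
  exact kernel.condition (adj.unit.app M)

/-- `(𝔟 M) ⊗ N → 𝔟 (M ⊗ N)` -/
theorem exists_twist_lift (𝔟 : P.IdealSheafData) (M N : P.Modules) :
    ∃ lam : CohB1.tensorMod ((Dual3.idealMul 𝔟).obj M) N ⟶ (Dual3.idealMul 𝔟).obj (CohB1.tensorMod M N),
      lam ≫ Dual3.idealMulι 𝔟 (CohB1.tensorMod M N) = (tn N).map (Dual3.idealMulι 𝔟 M) := by
  let adj := Scheme.Modules.pullbackPushforwardAdjunction 𝔟.subschemeι
  have h : (tn N).map (Dual3.idealMulι 𝔟 M) ≫ adj.unit.app ((tn N).obj M) = 0 := by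
    have hn := adj.unit.naturality ((tn N).map (Dual3.idealMulι 𝔟 M))
    rw [Functor.id_map, Functor.comp_map] at hn
    rw [hn, pullback_map_tn_eq_zero _ N _ (pullback_map_idealMulι 𝔟 M), Functor.map_zero, comp_zero]
  exact ⟨kernel.lift _ _ h, kernel.lift_ι _ _ _⟩

/-- `𝔟 M = M` off the support -/
theorem isIso_restrict_idealMulι (𝔟 : P.IdealSheafData) (M : P.Modules) [M.IsQuasicoherent] (W : P.Opens)
    (hW : Disjoint (W : Set P) (𝔟.support : Set P)) :
    IsIso ((Scheme.Modules.restrictFunctor W.ι).map (Dual3.idealMulι 𝔟 M)) := by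
  haveI : Mono ((Scheme.Modules.restrictFunctor W.ι).map (Dual3.idealMulι 𝔟 M)) :=
    mono_of_app_injective _ fun V => app_injective_of_mono (Dual3.idealMulι 𝔟 M) (W.ι ''ᵁ V)
  haveI : (M.restrict W.ι).IsQuasicoherent := TwistPush.isQuasicoherent_restr W M
  obtain ⟨ψ, hψ⟩ := exists_lift_of_mono (𝟙 (M.restrict W.ι))
    ((Scheme.Modules.restrictFunctor W.ι).map (Dual3.idealMulι 𝔟 M))
    (fun V : W.toScheme.affineOpens => V.1) (iSup_affineOpens_eq_top W.toScheme) (fun V => V.2)
    (fun V => isLocAt_of_isQuasicoherent _ V.2) fun V x => by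
      refine (mem_idealMul_iff 𝔟 M ⟨_, V.2.image_of_isOpenImmersion W.ι⟩ _).2 ?_
      have htop : 𝔟.ideal ⟨_, V.2.image_of_isOpenImmersion W.ι⟩ = ⊤ := by
        rw [← Ideal.radical_eq_top]
        by_contra hne
        obtain ⟨p, hp, hle⟩ := Ideal.exists_le_maximal _ fun e => hne (Ideal.radical_eq_top.2 e)
        let U : P.affineOpens := ⟨_, V.2.image_of_isOpenImmersion W.ι⟩
        have hmem : U.2.fromSpec ⟨p, hp.isPrime⟩ ∈ (𝔟.support : Set P) ∩ (U.1 : Set P) := by
          rw [Scheme.IdealSheafData.coe_support_inter, ← U.2.fromSpec_image_zeroLocus]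
          exact ⟨⟨p, hp.isPrime⟩, hle, rfl⟩
        exact hW.le_bot ⟨W.ι_image_le _ hmem.2, hmem.1⟩
      rw [htop, Submodule.top_smul]
      trivial
  haveI : IsSplitEpi ((Scheme.Modules.restrictFunctor W.ι).map (Dual3.idealMulι 𝔟 M)) := ⟨⟨⟨ψ, hψ⟩⟩⟩
  exact isIso_of_mono_of_isSplitEpi _

/-- `(𝔟 M) ⊗ N → M ⊗ N` is an isomorphism off the support -/
theorem isIso_restrict_tn (𝔟 : P.IdealSheafData) (M N : P.Modules) [M.IsQuasicoherent] (W : P.Opens)
    (hW : Disjoint (W : Set P) (𝔟.support : Set P)) :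
    IsIso ((Scheme.Modules.restrictFunctor W.ι).map ((tn N).map (Dual3.idealMulι 𝔟 M))) := by
  haveI := isIso_restrict_idealMulι 𝔟 M W hW
  exact (NatIso.isIso_map_iff (Scheme.Modules.restrictFunctorIsoPullback W.ι) _).2
    (isIso_pullback_map_tn W.ι N _
      ((NatIso.isIso_map_iff (Scheme.Modules.restrictFunctorIsoPullback W.ι) _).1 inferInstance))

/-- sections of a map that is an isomorphism on an open -/
theorem bijective_app_of_isIso_restrict {A B : P.Modules} (φ : A ⟶ B) (W O : P.Opens) (hO : O ≤ W)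
    [IsIso ((Scheme.Modules.restrictFunctor W.ι).map φ)] : Function.Bijective (φ.app O) := by
  have h := ConcreteCategory.bijective_of_isIso
    (((Scheme.Modules.restrictFunctor W.ι).map φ).app (W.ι ⁻¹ᵁ O))
  have e : W.ι ''ᵁ (W.ι ⁻¹ᵁ O) = O := HomOn.image_preimage hO
  have h' : Function.Bijective (φ.app (W.ι ''ᵁ (W.ι ⁻¹ᵁ O))) := h
  rwa [e] at h'

end Groth.Agent.Licht93.TwistMap
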