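import Groth.Agent.Licht93.ChowModel
import Groth.Agent.Licht93.GenericStalk
import Groth.Agent.Licht93.TwistMap
import Groth.Agent.Licht93.Projective
import Groth.Agent.FMK72.Acyclic
import Groth.Agent.Coh69.AffinePush
import Groth.Agent.FlatMor67.DescFree
import Groth.Agent.Amp73.GlobGen

/-!
# Top cohomology of nonproper varieties
-/

set_option autoImplicit false
set_option backward.isDefEq.respectTransparency.types false
set_option maxSynthPendingDepth 6
set_option maxHeartbeats 1000000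
set_option synthInstance.maxHeartbeats 200000

universe u

open CategoryTheory CategoryTheory.Limits AlgebraicGeometry TopologicalSpace Opposite

noncomputable section

namespace Groth.Agent.Licht93.Nonproper

open QC70

variable {X Y : Scheme.{u}}

theorem bijective_app (π : X ⟶ Y) (W : Y.Opens) [hW' : IsIso (π ∣_ W)] {V : Y.Opens} (hV : V ≤ W) :
    Function.Bijective (π.app V).hom := by
  have h2 : W.ι ''ᵁ (W.ι ⁻¹ᵁ V) = V := HomOn.image_preimage hV
  suffices h : Function.Bijective (π.app (W.ι ''ᵁ (W.ι ⁻¹ᵁ V))).hom from h2 ▸ h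
  have hb := ConcreteCategory.bijective_of_isIso ((π ∣_ W).app (W.ι ⁻¹ᵁ V))
  rw [morphismRestrict_app] at hb
  exact (Function.Bijective.of_comp_iff' (ConcreteCategory.bijective_of_isIso
    (X.presheaf.map (eqToHom (image_morphismRestrict_preimage π W (W.ι ⁻¹ᵁ V))).op)) _).1 hb

/-- direct images of invertible modules where the morphism is an isomorphism -/
theorem exists_frame_push (π : X ⟶ Y) [IsProper π] (W : Y.Opens) [IsIso (π ∣_ W)] (y : Y) (hy : y ∈ W)
    {L : X.Modules} (hL : PicF.IsInvertible L) :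
    ∃ (V : Y.Opens) (_ : y ∈ V) (e : Γ((Scheme.Modules.pushforward π).obj L, V)),
      Var76.LineBundle.IsFrame ((Scheme.Modules.pushforward π).obj L) V e := by
  obtain ⟨⟨x₀, hx₀⟩, hx₀'⟩ := (π ∣_ W).homeomorph.surjective ⟨y, hy⟩
  obtain ⟨U₀, hxU, e₀, he₀⟩ :=
    Var76.LineBundle.exists_frame (Mero90.isFinLocFreeOfRank_of_isInvertible hL) x₀
  let C : Y.Opens := ⟨(π '' (U₀ : Set X)ᶜ)ᶜ, (π.isClosedMap _ U₀.2.isClosed_compl).isOpen_compl⟩
  have hle : π ⁻¹ᵁ (W ⊓ C) ≤ U₀ := fun x hx => by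
    by_contra h
    exact hx.2 ⟨x, h, rfl⟩
  have hyC : y ∈ C := by
    rintro ⟨x, hx, hxy⟩
    have hxW : x ∈ π ⁻¹ᵁ W := show π x ∈ W by rw [hxy]; exact hy
    have e : (⟨x₀, hx₀⟩ : ↥(π ⁻¹ᵁ W)) = ⟨x, hxW⟩ := (π ∣_ W).homeomorph.injective
      (hx₀'.trans (Subtype.ext ((morphismRestrict_base_coe π W ⟨x, hxW⟩).trans hxy).symm))
    obtain rfl : x₀ = x := congrArg Subtype.val e
    exact hx hxU
  refine ⟨W ⊓ C, ⟨hy, hyC⟩, show Γ(L, π ⁻¹ᵁ (W ⊓ C)) from res L hle e₀, fun V hV => ?_⟩
  have h1 := (he₀.res hle (π ⁻¹ᵁ V) (π.preimage_mono hV)).comp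
    (bijective_app π W (hV.trans inf_le_left))
  have e : (fun a : Γ(Y, V) => a • (show Γ((Scheme.Modules.pushforward π).obj L, V) from
      res L (π.preimage_mono hV) (res L hle e₀))) =
      ((fun c : Γ(X, π ⁻¹ᵁ V) => c • res L (π.preimage_mono hV) (res L hle e₀)) ∘ (π.app V).hom) :=
    funext fun a => QCqs72.pushforward_smul L π a _
  exact e ▸ h1

/-- surjectivity on stalks from opens where the map is onto -/
theorem surjective_stalk {A B : Y.Modules} (φ : A ⟶ B) (V : Y.Opens) (y : Y) (hy : y ∈ V)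
    (h : ∀ O, O ≤ V → Function.Surjective (φ.app O)) : Function.Surjective (stalkMapM φ y) := fun z => by
  obtain ⟨O, hyO, s, rfl⟩ := germM_exist z
  obtain ⟨t, ht⟩ := h (O ⊓ V) inf_le_right (res B inf_le_left s)
  exact ⟨germM A (O ⊓ V) y ⟨hyO, hy⟩ t, by rw [stalkMapM_germ, ht, germM_res]⟩

variable {k : Type u} [Field k] {U : Scheme.{u}} (f : U ⟶ Spec (CommRingCat.of k)) [IsIntegral U] [IsSeparated f]
  [LocallyOfFiniteType f] [QuasiCompact f] {d : ℕ} (hd : topologicalKrullDim U = d)

omit [IsIntegral U] [QuasiCompact f] in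
/-- the model of a nonproper variety is a proper open of its closure -/
theorem opensRange_ne_top (hp : ¬ IsProper f) {U' Xc : Scheme.{u}} (π : U' ⟶ U) [IsProper π] [Surjective π]
    {n : ℕ} (i : Xc ⟶ CohB1.ProjSpace n k) [IsClosedImmersion i] (j : U' ⟶ Xc) [IsOpenImmersion j]
    (hfac : j ≫ i ≫ CohB1.ProjSpace.toSpec n k = π ≫ f) : j.opensRange ≠ ⊤ := by
  intro h
  haveI : IsIso j := isIso_of_isOpenImmersion_of_opensRange_eq_top _ h
  haveI : IsProper (CohB1.ProjSpace.toSpec n k) := Curves2.ProjLine.isProper_toSpec k n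
  haveI : IsProper (π ≫ f) := hfac ▸ inferInstance
  haveI : UniversallyClosed f := UniversallyClosed.of_comp_surjective π f
  exact hp ⟨⟩

include hd in
/-- **Lichtenbaum** for ideals. -/
theorem subsingleton_ideal (hp : ¬ IsProper f) {I : U.Modules} (ι : I ⟶ Coh.structureModule U) [Mono ι]
    (hI : Coh.IsCoh I) : Subsingleton (Coh.HH U I d) := by
  classical
  haveI := hI.2
  rcases GenericStalk.stalk_ideal ι with h | heI
  · exact GenericStalk.subsingleton_of_stalk f hd h
  obtain ⟨eI⟩ := heI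
  haveI : IsLocallyNoetherian U := LocallyOfFiniteType.isLocallyNoetherian f
  haveI : CompactSpace U := QuasiCompact.compactSpace_of_compactSpace f
  haveI : IsNoetherian U := {}
  obtain ⟨⟨n, U', π, Xc, i, j, W, L, hXc, hU', hi, hj, hfac, hπ, hsurj, hWne, hiso, hdimX, -, hL⟩⟩ :=
    ChowModel.exists_model f d hd
  haveI := hXc; haveI := hU'; haveI := hi; haveI := hj; haveI := hπ; haveI := hiso; haveI := hsurj
  have hne := opensRange_ne_top f hp π i j hfac
  haveI : IsLocallyNoetherian U' := LocallyOfFiniteType.isLocallyNoetherian π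
  haveI : CompactSpace U' := QuasiCompact.compactSpace_of_compactSpace π
  haveI : IsNoetherian U' := {}
  obtain ⟨m', rfl⟩ : ∃ m', d = m' + 1 := by
    refine ⟨d - 1, ?_⟩
    by_contra hd0
    have hd0' : d = 0 := by omega
    subst hd0'
    haveI : IsProper (CohB1.ProjSpace.toSpec n k) := Curves2.ProjLine.isProper_toSpec k n
    let gX := i ≫ CohB1.ProjSpace.toSpec n k
    have hall : ∀ x : Xc, genericPoint Xc = x := fun x => by
      by_contra hx
      have h1 := Var76.FibreBound.tdegN_lt gX ((genericPoint_spec Xc).specializes trivial) hx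
      have h2 := (WC97.dim_eq gX).1
      rw [hdimX] at h2
      have h3 : 0 = WC97.tdegN gX (genericPoint Xc) := by exact_mod_cast h2
      omega
    exact hne (top_le_iff.1 fun x _ => ⟨genericPoint U', (hall _).symm.trans (hall x)⟩)
  -- the open where everything happens
  have hηW : genericPoint U ∈ W :=
    ((genericPoint_spec U).mem_open_set_iff W.2).2 (by simpa using hWne)
  obtain ⟨_, ⟨V₀, hV₀, rfl⟩, hηV, hV₀W⟩ :=
    U.isBasis_affineOpens.exists_subset_of_mem_open hηW W.2
  let J := Scheme.IdealSheafData.vanishingIdeal (X := U) ⟨(V₀ : Set U)ᶜ, V₀.2.isClosed_compl⟩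
  have hJ : (J.support : Set U) = (V₀ : Set U)ᶜ := Scheme.IdealSheafData.coe_support_vanishingIdeal _
  have hO : Coh.IsCoh (Coh.structureModule U') := Amp73.isCoh_of_isInvertible EGA73.isInvertible_structureModule
  obtain ⟨a, ha⟩ := TwistPush.exists_vanishing π J hL hO
  let N := CohB1.tensorPow L a
  let M' := CohB1.tensorMod (Coh.structureModule U') N
  have hM'inv : PicF.IsInvertible M' := EGA73.isInvertible_tensorMod EGA73.isInvertible_structureModule
    (EGA73.isInvertible_tensorPow (Amp73.isInvertible_of_isRelAmple hL) a)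
  have hM' : Coh.IsCoh M' := Amp73.isCoh_of_isInvertible hM'inv
  let P := (Scheme.Modules.pushforward π).obj M'
  have hP : Coh.IsCoh P := FlatMor67.DescFree.isCoh_pushforward π hM'
  obtain ⟨V₁, hηV₁, e, he⟩ := exists_frame_push π W (genericPoint U) hηW hM'inv
  obtain ⟨eP⟩ := GenericStalk.nonempty_stalk_equiv_of_frame he hηV₁
  obtain ⟨N₀, ψ, hψ⟩ := GenericStalk.exists_extend J hV₀ hJ hP hI (genericPoint U) hηV (eP.symm.trans eI)
  obtain ⟨b, hb⟩ := TwistPush.exists_push_lift π J hM' N₀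
  obtain ⟨ρ₁, hρ₁⟩ := hb b le_rfl
  let 𝔞 := (J.comap π) ^ b
  obtain ⟨lam, hlam⟩ := TwistMap.exists_twist_lift 𝔞 (Coh.structureModule U') N
  let G := TwistPush.G π J (Coh.structureModule U') L a b
  haveI : (Coh.structureModule U').IsQuasicoherent := hO.1
  have hG : Coh.IsCoh G := Amp73.isCoh_tensorMod
    ⟨isQuasicoherent_idealMul _ _, haveI := hO.2; isFiniteType_idealMul _ _⟩
    (Amp73.isCoh_of_isInvertible (EGA73.isInvertible_tensorPow (Amp73.isInvertible_of_isRelAmple hL) a))
  haveI := hG.1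
  let ρ : (Scheme.Modules.pushforward π).obj G ⟶ (Dual3.idealMul (J ^ N₀)).obj P :=
    (Scheme.Modules.pushforward π).map lam ≫ ρ₁
  haveI := hP.1
  have hρ : Function.Surjective (stalkMapM ρ (genericPoint U)) := by
    have hdisj : Disjoint ((π ⁻¹ᵁ V₀ : U'.Opens) : Set U') (𝔞.support : Set U') := by
      rw [Set.disjoint_left]
      intro x hx
      refine QC70.notMem_support_pow ?_ b
      rw [Scheme.IdealSheafData.support_comap]
      exact fun h => (hJ.le h) hx
    haveI := TwistMap.isIso_restrict_tn 𝔞 (Coh.structureModule U') N (π ⁻¹ᵁ V₀) hdisj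
    have hs := surjective_stalk
      ((Scheme.Modules.pushforward π).map ((TwistMap.tn N).map (Dual3.idealMulι 𝔞 (Coh.structureModule U'))))
      V₀ (genericPoint U) hηV fun O hO' =>
        (TwistMap.bijective_app_of_isIso_restrict ((TwistMap.tn N).map (Dual3.idealMulι 𝔞 (Coh.structureModule U')))
          (π ⁻¹ᵁ V₀) (π ⁻¹ᵁ O) (π.preimage_mono hO')).2
    have hfac' : ρ ≫ Dual3.idealMulι (J ^ N₀) P =
        (Scheme.Modules.pushforward π).map ((TwistMap.tn N).map (Dual3.idealMulι 𝔞 (Coh.structureModule U'))) := by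
      refine Eq.trans ?_ (congrArg (Scheme.Modules.pushforward π).map hlam)
      refine Eq.trans ?_ (Functor.map_comp _ _ _).symm
      exact (Category.assoc _ _ _).trans (congrArg (_ ≫ ·) hρ₁)
    intro z
    obtain ⟨x, hx⟩ := hs (stalkMapM (Dual3.idealMulι (J ^ N₀) P) _ z)
    refine ⟨x, injective_stalkMapM_of_mono (Dual3.idealMulι (J ^ N₀) P) _ ?_⟩
    exact ((stalkMapM_comp ρ (Dual3.idealMulι (J ^ N₀) P) _ x).symm.trans
      (congrArg (fun φ => stalkMapM φ (genericPoint U) x) hfac')).trans hx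
  refine GenericStalk.subsingleton_of_map f hd (ρ ≫ ψ) ?_ ?_
  · intro z
    obtain ⟨y, rfl⟩ := hψ z
    obtain ⟨x, rfl⟩ := hρ y
    exact ⟨x, stalkMapM_comp _ _ _ _⟩
  haveI : IsNoetherian Xc := by
    haveI : IsProper (CohB1.ProjSpace.toSpec n k) := Curves2.ProjLine.isProper_toSpec k n
    haveI : IsLocallyNoetherian Xc := LocallyOfFiniteType.isLocallyNoetherian (i ≫ CohB1.ProjSpace.toSpec n k)
    haveI : CompactSpace Xc := QuasiCompact.compactSpace_of_compactSpace (i ≫ CohB1.ProjSpace.toSpec n k)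
    exact {}
  haveI : ((Scheme.Modules.pushforward j).obj G).IsQuasicoherent :=
    QCqs72.isQuasicoherent_pushforward (M := G) j
  have h1 := Projective.subsingleton_top i hdimX j.opensRange hne ((Scheme.Modules.pushforward j).obj G)
  have h2 : Subsingleton (Coh69.HE (Coh.toAb (((Scheme.Modules.pushforward j).obj G).restrict j)) (m' + 1)
      (⊤ : U'.Opens)) := by
    rw [FMK72.subsingleton_HE_restrict_iff, Scheme.Hom.image_top_eq_opensRange]
    exact h1
  have h3 : Subsingleton (Coh69.HE (Coh.toAb G) (m' + 1) (⊤ : U'.Opens)) :=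
    FMK72.subsingleton_HE_congr ((Scheme.Modules.restrictFunctorAdjCounitIso j).app G) h2
  obtain ⟨eL⟩ := Coh69.leray π.base {V | IsAffineOpen (X := U) V} U.isBasis_affineOpens (Coh.toAb G)
    (fun V hV q => ha b q V hV) (m' + 1) (⊤ : U.Opens)
  haveI : Subsingleton (Coh69.HE (Coh.toAb ((Scheme.Modules.pushforward π).obj G)) (m' + 1) (⊤ : U.Opens)) :=
    @Equiv.subsingleton _ _ eL.symm.toEquiv h3
  exact (Coh69.hhEquiv _ _).toEquiv.subsingleton

end Groth.Agent.Licht93.Nonproper
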