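import Groth.Agent.Licht93.TopSheaf
import Groth.Agent.Licht93.ConeVanish
import Groth.Agent.EGA73.TildeQCoh
import Groth.Agent.EGA73.GradedQuot
import Groth.Agent.Coh69.AffVanish
import Groth.Prelude.Def_CohB1

/-!
# Top cohomology on unions of basic opens of projective space, for tildes of graded modules killed by a prime
-/

set_option autoImplicit false

universe u

open CategoryTheory AlgebraicGeometry TopologicalSpace Opposite
open Groth.Agent.LC17

noncomputable section

namespace Groth.Agent.Licht93.ProjCore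

attribute [local instance] MvPolynomial.gradedAlgebra

open TopCech ConeLocal

variable {k : Type u} [Field k] {n : ℕ}


theorem pw_map_le {R : Type u} [CommRing R] (f : ℕ → R) (L : ℕ) (M : ModuleCat.{u} R) :
    ∀ l : List ℕ, pw (l.map f) L M ≤ ⨆ j ∈ l.toFinset, LinearMap.range (LinearMap.lsmul R M (f j ^ L))
  | [] => by simp [pw]
  | a :: l => by
    rw [List.map_cons, pw]
    refine sup_le (le_iSup₂_of_le a (by simp) le_rfl) ((pw_map_le f L M l).trans ?_)
    exact iSup₂_le fun j hj => le_iSup₂_of_le j (by simp at hj ⊢; exact Or.inr hj) le_rfl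

theorem le_pw_map {R : Type u} [CommRing R] (f : ℕ → R) (L : ℕ) (M : ModuleCat.{u} R) :
    ∀ (l : List ℕ), ∀ j ∈ l, ∀ y : M, f j ^ L • y ∈ pw (l.map f) L M
  | [], j, hj, _ => by simp at hj
  | a :: l, j, hj, y => by
    rw [List.map_cons, pw]
    rcases List.mem_cons.1 hj with rfl | h
    · exact Submodule.mem_sup_left ⟨y, rfl⟩
    · exact Submodule.mem_sup_right (le_pw_map f L M l j h y)

theorem prod_range_map {R : Type u} [CommRing R] (f : ℕ → R) (m : ℕ) :
    ((List.range m).map f).prod = ∏ j ∈ Finset.range m, f j := by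
  rw [← List.toFinset_range, List.prod_toFinset _ List.nodup_range]

section Module

variable {M : Type u} [AddCommGroup M] [Module k M] [Module (MvPolynomial (Fin (n + 1)) k) M] {ℳ : ℕ → Submodule k M}
  [SetLike.GradedSMul (CohB1.polyGrading n k) ℳ] [DirectSum.Decomposition ℳ]

theorem decompose_smul_right {j : ℕ} {a : (MvPolynomial (Fin (n + 1)) k)} (ha : a ∈ (CohB1.polyGrading n k) j) (x : M) (N : ℕ) :
    (DirectSum.decompose ℳ (a • x) (j + N) : M) = a • (DirectSum.decompose ℳ x N : M) := by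
  classical
  induction x using DirectSum.Decomposition.inductionOn ℳ with
  | zero => simp
  | homogeneous y =>
    rename_i i
    have hay : a • (y : M) ∈ ℳ (j + i) := EGA73.gsmul_mem (CohB1.polyGrading n k) ℳ ha y.2
    by_cases h : i = N
    · subst h
      rw [DirectSum.decompose_of_mem_same ℳ hay, DirectSum.decompose_of_mem_same ℳ y.2]
    · rw [DirectSum.decompose_of_mem_ne ℳ hay (by omega), DirectSum.decompose_of_mem_ne ℳ y.2 h, smul_zero]
  | add y z hy hz => simp only [smul_add, DirectSum.decompose_add, DirectSum.add_apply, Submodule.coe_add, hy, hz]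

theorem decompose_smul_of_mem {i : ℕ} {x : M} (hx : x ∈ ℳ i) (a : (MvPolynomial (Fin (n + 1)) k)) :
    (DirectSum.decompose ℳ (a • x) i : M) = (DirectSum.decompose (CohB1.polyGrading n k) a 0 : (MvPolynomial (Fin (n + 1)) k)) • x := by
  classical
  induction a using DirectSum.Decomposition.inductionOn (CohB1.polyGrading n k) with
  | zero => simp
  | homogeneous b =>
    rename_i j
    have hbx : (b : (MvPolynomial (Fin (n + 1)) k)) • x ∈ ℳ (j + i) := EGA73.gsmul_mem (CohB1.polyGrading n k) ℳ b.2 hx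
    by_cases h : j = 0
    · subst h
      rw [DirectSum.decompose_of_mem_same (CohB1.polyGrading n k) b.2]
      rw [Nat.zero_add] at hbx
      exact DirectSum.decompose_of_mem_same ℳ hbx
    · rw [DirectSum.decompose_of_mem_ne ℳ hbx (by omega), DirectSum.decompose_of_mem_ne (CohB1.polyGrading n k) b.2 h, zero_smul]
  | add b c hb hc => simp only [add_smul, DirectSum.decompose_add, DirectSum.add_apply, Submodule.coe_add, hb, hc]

variable (f : ℕ → (MvPolynomial (Fin (n + 1)) k)) (d : ℕ → ℕ) (hd : ∀ j, 0 < d j) (hf : ∀ j, f j ∈ (CohB1.polyGrading n k) (d j))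

include hf in
theorem prod_mem (s : Finset ℕ) : ∏ j ∈ s, f j ∈ (CohB1.polyGrading n k) (∑ j ∈ s, d j) :=
  MvPolynomial.IsHomogeneous.prod s f d fun j _ => hf j

/-- the cover -/
abbrev cov : ℕ → Opens (Proj (CohB1.polyGrading n k)) := fun j => Proj.basicOpen (CohB1.polyGrading n k) (f j)

theorem inf_cov (s : Finset ℕ) : s.inf (cov f) = Proj.basicOpen (CohB1.polyGrading n k) (∏ j ∈ s, f j) := by
  classical
  induction s using Finset.induction with
  | empty => simp
  | insert a s ha ih => rw [Finset.inf_insert, Finset.prod_insert ha, Proj.basicOpen_mul, ih]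

include hd hf in
theorem good (e : ℤ) (m : ℕ) : TopSheaf.Good (Coh.toAb (GrTilde.tilde (CohB1.polyGrading n k) ℳ e)) (cov f) m := by
  intro s _ hs i
  haveI : (GrTilde.tilde (CohB1.polyGrading n k) ℳ e).IsQuasicoherent := EGA73.isQCoh_tilde (CohB1.polyGrading n k) ℳ e
  rw [inf_cov]
  exact Coh69.qcoh_subsingleton_HE (GrTilde.tilde (CohB1.polyGrading n k) ℳ e)
    (Proj.isAffineOpen_basicOpen (CohB1.polyGrading n k) _ (prod_mem f d hf s) (Finset.sum_pos (fun j _ => hd j) hs)) i

theorem not_mem_of_mem_iU {m : ℕ} (x : ↥(TopSheaf.iU (cov f) m)) :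
    (∏ j ∈ Finset.range (m + 1), f j) ∉ x.1.asHomogeneousIdeal := by
  have h : TopSheaf.iU (cov f) m ≤ Proj.basicOpen (CohB1.polyGrading n k) (∏ j ∈ Finset.range (m + 1), f j) := (inf_cov f _).le
  exact h x.2

theorem not_mem_of_mem_oU {m j : ℕ} (x : ↥(TopSheaf.oU (cov f) m j)) :
    (∏ l ∈ (Finset.range (m + 1)).erase j, f l) ∉ x.1.asHomogeneousIdeal := by
  have h : TopSheaf.oU (cov f) m j ≤ Proj.basicOpen (CohB1.polyGrading n k) (∏ l ∈ (Finset.range (m + 1)).erase j, f l) := (inf_cov f _).le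
  exact h x.2

/-- evaluation at a point as an additive map -/
def evalAt (e : ℤ) (U : Opens (Proj (CohB1.polyGrading n k))) (x : U) :
    (Coh.toAb (GrTilde.tilde (CohB1.polyGrading n k) ℳ e)).obj.obj (op U) →+ GrTilde.LocMod (CohB1.polyGrading n k) (M := M) x.1 where
  toFun s := ((s : GrTilde.sect (CohB1.polyGrading n k) ℳ e (op U)).1 x).1
  map_zero' := rfl
  map_add' _ _ := rfl

theorem evalAt_rs (e : ℤ) {U V : Opens (Proj (CohB1.polyGrading n k))} (h : V ≤ U) (x : V)
    (s : (Coh.toAb (GrTilde.tilde (CohB1.polyGrading n k) ℳ e)).obj.obj (op U)) :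
    evalAt e V x (TopSheaf.rs (Coh.toAb (GrTilde.tilde (CohB1.polyGrading n k) ℳ e)) h s) = evalAt e U ⟨x.1, h x.2⟩ s := rfl

theorem evalAt_fracSect (e : ℤ) {U : Opens (Proj (CohB1.polyGrading n k))} (x : U) {i j : ℕ} {z : M} (hz : z ∈ ℳ i) {g : (MvPolynomial (Fin (n + 1)) k)}
    (hg : g ∈ (CohB1.polyGrading n k) j) (hU : ∀ y : U, g ∉ y.1.asHomogeneousIdeal) (hij : (i : ℤ) = j + e) :
    evalAt e U x (EGA73.fracSect hz hg hU hij) = EGA73.frac x.1 z g (hU x) := rfl

theorem frac_sum (x : ProjectiveSpectrum (CohB1.polyGrading n k)) {ι : Type*} (s : Finset ι) (z : ι → M) (g : (MvPolynomial (Fin (n + 1)) k))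
    (hg : g ∉ x.asHomogeneousIdeal) :
    EGA73.frac x (∑ i ∈ s, z i) g hg = ∑ i ∈ s, EGA73.frac x (z i) g hg := by
  classical
  induction s using Finset.induction with
  | empty => simp [EGA73.frac]
  | insert a s ha ih =>
    rw [Finset.sum_insert ha, Finset.sum_insert ha, ← ih, EGA73.frac, EGA73.frac, EGA73.frac,
      LocalizedModule.mk_add_mk, LocalizedModule.mk_eq]
    exact ⟨1, by simp only [one_smul, Submonoid.smul_def, Submonoid.coe_mul]; module⟩

set_option maxHeartbeats 1600000 in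
include hd hf in
/-- **Vanishing**: a common zero of the forms on `V(p)` kills the top cohomology. -/
theorem subsingleton_of_common_zero (m : ℕ) (p : Ideal (MvPolynomial (Fin (n + 1)) k)) (hp : p.IsPrime) (hh : p.IsHomogeneous (CohB1.polyGrading n k))
    (hpM : ∀ a ∈ p, ∀ x : M, a • x = 0) (hlen : (vertex p).height ≤ (m + 2 : ℕ))
    (q : ProjectiveSpectrum (CohB1.polyGrading n k)) (hpq : p ≤ q.asHomogeneousIdeal.toIdeal)
    (hfq : ∀ j, j ≤ m + 1 → f j ∈ q.asHomogeneousIdeal) :
    Subsingleton (Coh69.HE (Coh.toAb (GrTilde.tilde (CohB1.polyGrading n k) ℳ 0)) (m + 1) (TopSheaf.sU (cov f) (m + 1))) := by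
  classical
  rw [TopSheaf.subsingleton_iff _ m _ (good f d hd hf 0 (m + 1))]
  intro t
  set s := Finset.range (m + 1 + 1) with hs
  set F := ∏ j ∈ s, f j with hF
  set E := ∑ j ∈ s, d j with hE
  have hFm : F ∈ (CohB1.polyGrading n k) E := prod_mem f d hf s
  have hE0 : 0 < E := Finset.sum_pos (fun j _ => hd j) ⟨0, by simp [hs]⟩
  have hle : Proj.basicOpen (CohB1.polyGrading n k) F ≤ TopSheaf.iU (cov f) (m + 1) := (inf_cov f s).ge
  obtain ⟨K, i, x0, hx0, hi, hval⟩ := EGA73.exists_frac_eq hE0 hFm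
    (TopSheaf.rs (Coh.toAb (GrTilde.tilde (CohB1.polyGrading n k) ℳ 0)) hle t : GrTilde.sect (CohB1.polyGrading n k) ℳ 0 (op (ProjectiveSpectrum.basicOpen (CohB1.polyGrading n k) F)))
  have hqo : q.asHomogeneousIdeal.toIdeal < Cone.origin k (n + 1) := by
    refine lt_of_le_of_ne (Cone.le_origin q.asHomogeneousIdeal.isHomogeneous q.isPrime.ne_top) fun e => ?_
    refine q.not_irrelevant_le fun a ha => ?_
    show a ∈ q.asHomogeneousIdeal.toIdeal
    rw [e]
    rw [HomogeneousIdeal.mem_irrelevant_iff, GradedRing.proj_apply,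
      show (DirectSum.decompose (CohB1.polyGrading n k) a 0 : (MvPolynomial (Fin (n + 1)) k)) = MvPolynomial.homogeneousComponent 0 a from
        MvPolynomial.decomposition.decompose'_apply a 0, MvPolynomial.homogeneousComponent_zero] at ha
    refine RingHom.mem_ker.2 ?_
    rwa [MvPolynomial.constantCoeff_eq, ← MvPolynomial.C_eq_zero]
  let fs := (List.range (m + 1 + 1)).map f
  obtain ⟨c, t0, ht0, hmem⟩ := ConeVanish.exists_dec p hp hh M hpM fs (by simpa [fs, add_assoc] using hlen)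
    q.asHomogeneousIdeal.toIdeal q.isPrime hpq hqo (fun g hg => by
      obtain ⟨j, hj, rfl⟩ := List.mem_map.1 hg
      exact hfq j (by simp at hj; omega)) K x0
  have hmem2 := pw_map_le f (K + c) (ModuleCat.of (MvPolynomial (Fin (n + 1)) k) M) _ hmem
  rw [show fs.prod = F from prod_range_map f _, List.toFinset_range] at hmem2
  obtain ⟨μ, hμ⟩ := (Submodule.mem_iSup_finset_iff_exists_sum _ _).1 hmem2
  choose y hy using fun j => (μ j).2
  -- the constant term of `t0`
  obtain ⟨a, ha, ha0⟩ : ∃ a : k, a ≠ 0 ∧ (DirectSum.decompose (CohB1.polyGrading n k) t0 0 : (MvPolynomial (Fin (n + 1)) k)) = MvPolynomial.C a := by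
    refine ⟨MvPolynomial.constantCoeff t0, fun h => ht0 (RingHom.mem_ker.2 h), ?_⟩
    rw [show (DirectSum.decompose (CohB1.polyGrading n k) t0 0 : (MvPolynomial (Fin (n + 1)) k)) = MvPolynomial.homogeneousComponent 0 t0 from
      MvPolynomial.decomposition.decompose'_apply t0 0, MvPolynomial.homogeneousComponent_zero,
      MvPolynomial.constantCoeff_eq]
  have hFc : F ^ c • x0 ∈ ℳ (c * E + i) :=
    EGA73.gsmul_mem (CohB1.polyGrading n k) ℳ (by simpa using SetLike.pow_mem_graded c hFm) hx0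
  have hiN : i = K * E := by exact_mod_cast (by simpa using hi : (i : ℤ) = (K : ℤ) * (E : ℤ))
  have hdE : ∀ j ∈ s, d j ≤ E := fun j hj => Finset.single_le_sum (fun l _ => Nat.zero_le (d l)) hj
  let deg : ℕ → ℕ := fun j => (K + c) * ∑ l ∈ s.erase j, d l
  let z : ℕ → M := fun j => (MvPolynomial.C a⁻¹ : MvPolynomial (Fin (n + 1)) k) • (DirectSum.decompose ℳ (y j) (deg j) : M)
  have hzm : ∀ j, z j ∈ ℳ (deg j) := fun j => by
    simpa using EGA73.gsmul_mem (CohB1.polyGrading n k) ℳ (MvPolynomial.isHomogeneous_C _ a⁻¹) (DirectSum.decompose ℳ (y j) (deg j)).2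
  have key : F ^ c • x0 = ∑ j ∈ s, f j ^ (K + c) • z j := by
    let pr : M →+ M := AddMonoidHom.mk'
      (fun v => (MvPolynomial.C a⁻¹ : MvPolynomial (Fin (n + 1)) k) • (DirectSum.decompose ℳ v (c * E + i) : M))
      fun u v => by simp only [DirectSum.decompose_add, DirectSum.add_apply, Submodule.coe_add, smul_add]
    have h0 : pr (t0 • F ^ c • x0) = F ^ c • x0 := by
      show (MvPolynomial.C a⁻¹ : MvPolynomial (Fin (n + 1)) k) •
        (DirectSum.decompose ℳ (t0 • F ^ c • x0) (c * E + i) : M) = _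
      rw [decompose_smul_of_mem hFc, ha0, smul_smul, ← map_mul, inv_mul_cancel₀ ha, map_one, one_smul]
    let y' : ℕ → M := fun j => y j
    have hμ' : t0 • F ^ c • x0 = ∑ j ∈ s, f j ^ (K + c) • y' j :=
      hμ.symm.trans (Finset.sum_congr rfl fun j _ => (hy j).symm)
    refine h0.symm.trans (((congrArg pr hμ').trans (map_sum pr _ _)).trans (Finset.sum_congr rfl fun j hj => ?_))
    show (MvPolynomial.C a⁻¹ : MvPolynomial (Fin (n + 1)) k) •
      (DirectSum.decompose ℳ (f j ^ (K + c) • y' j) (c * E + i) : M) = _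
    have hdeg : c * E + i = (K + c) * d j + deg j := by
      show _ = _ + (K + c) * ∑ l ∈ s.erase j, d l
      rw [← Nat.mul_add, Finset.add_sum_erase s d hj, ← hE, hiN]; ring
    rw [hdeg,
      decompose_smul_right (by simpa using SetLike.pow_mem_graded (K + c) (hf j)), smul_comm]
  have hvd : ∀ j, (∏ l ∈ s.erase j, f l) ^ (K + c) ∈ (CohB1.polyGrading n k) ((K + c) * ∑ l ∈ s.erase j, d l) := fun j => by
    simpa using SetLike.pow_mem_graded (K + c) (prod_mem f d hf (s.erase j))
  refine ⟨fun j => EGA73.fracSect (ℳ := ℳ) (U := TopSheaf.oU (cov f) (m + 1) j) (hzm j) (hvd j)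
    (fun x => EGA73.pow_notMem (not_mem_of_mem_oU f x) _) (by simp only [deg, add_zero]), ?_⟩
  refine EGA73.sect_ext fun (x : ↥(TopSheaf.iU (cov f) (m + 1))) => ?_
  show evalAt 0 _ x t = evalAt 0 _ x _
  rw [map_sum]
  have hxF : F ∉ x.1.asHomogeneousIdeal := not_mem_of_mem_iU f x
  refine (hval ⟨x.1, hxF⟩).trans ?_
  refine ((EGA73.frac_smul_left (c := F ^ c) (hx' := EGA73.mul_notMem (EGA73.pow_notMem hxF c)
    (EGA73.pow_notMem hxF K))).symm).trans ?_
  refine (EGA73.frac_congr (m' := ∑ j ∈ s, f j ^ (K + c) • z j) (h' := F ^ (K + c))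
    (hx' := EGA73.pow_notMem hxF _) (by rw [key, pow_add, mul_comm])).trans ((frac_sum _ _ _ _ _).trans ?_)
  refine Finset.sum_congr rfl fun j hj => ?_
  show _ = EGA73.frac x.1 (z j) ((∏ l ∈ s.erase j, f l) ^ (K + c)) _
  refine EGA73.frac_congr ?_
  rw [smul_smul, ← mul_pow, mul_comm, Finset.mul_prod_erase s f hj]

set_option maxHeartbeats 1600000 in
include hd hf in
/-- **Non-vanishing**: an element which is not eventually decomposable gives a class. -/
theorem not_subsingleton_of_not_dec (m : ℕ) {N i : ℕ} {z : M} (hz : z ∈ ℳ i) (e : ℤ)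
    (he : (i : ℤ) = N * (∑ j ∈ Finset.range (m + 2), d j : ℕ) + e)
    (hnd : ¬ Dec ((List.range (m + 2)).map f) (ModuleCat.of (MvPolynomial (Fin (n + 1)) k) M) N z) :
    ¬ Subsingleton (Coh69.HE (Coh.toAb (GrTilde.tilde (CohB1.polyGrading n k) ℳ e)) (m + 1) (TopSheaf.sU (cov f) (m + 1))) := by
  classical
  rw [TopSheaf.subsingleton_iff _ m _ (good f d hd hf e (m + 1))]
  intro hall
  apply hnd
  set s := Finset.range (m + 1 + 1) with hs
  set F := ∏ j ∈ s, f j with hF
  set E := ∑ j ∈ s, d j with hE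
  have hFm : F ∈ (CohB1.polyGrading n k) E := prod_mem f d hf s
  have hE0 : 0 < E := Finset.sum_pos (fun j _ => hd j) ⟨0, by simp [hs]⟩
  obtain ⟨v, hv⟩ := hall (EGA73.fracSect (ℳ := ℳ) (U := TopSheaf.iU (cov f) (m + 1)) hz
    (by simpa using SetLike.pow_mem_graded N hFm) (fun x => EGA73.pow_notMem (not_mem_of_mem_iU f x) N)
    (by rw [he]; push_cast; ring))
  have hP : ∀ j, Proj.basicOpen (CohB1.polyGrading n k) (∏ l ∈ s.erase j, f l) ≤ TopSheaf.oU (cov f) (m + 1) j :=
    fun j => (inf_cov f _).ge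
  have hEj : ∀ j, 0 < ∑ l ∈ s.erase j, d l := fun j => Finset.sum_pos (fun l _ => hd l) (by
    rcases eq_or_ne j 0 with rfl | h
    · exact ⟨1, by simp [hs]⟩
    · exact ⟨0, by simp [hs, h.symm]⟩)
  choose K deg y hym hydeg hy using fun j => EGA73.exists_frac_eq (hEj j) (prod_mem f d hf (s.erase j))
    (TopSheaf.rs (Coh.toAb (GrTilde.tilde (CohB1.polyGrading n k) ℳ e)) (hP j) (v j) :
      GrTilde.sect (CohB1.polyGrading n k) ℳ e (op (ProjectiveSpectrum.basicOpen (CohB1.polyGrading n k) (∏ l ∈ s.erase j, f l))))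
  obtain ⟨L, hLN, hLK⟩ : ∃ L, N ≤ L ∧ ∀ j ∈ s, K j ≤ L :=
    ⟨N + s.sup K, Nat.le_add_right _ _, fun j hj => (Finset.le_sup hj).trans (Nat.le_add_left _ _)⟩
  let w : ℕ → M := fun j => (f j ^ L * (∏ l ∈ s.erase j, f l) ^ (L - K j)) • y j
  let D : M := F ^ (L - N) • z - ∑ j ∈ s, w j
  have hD : D ∈ ℳ ((L - N) * E + i) := by
    refine sub_mem (EGA73.gsmul_mem (CohB1.polyGrading n k) ℳ (by simpa using SetLike.pow_mem_graded (L - N) hFm) hz)
      (Submodule.sum_mem _ fun j hj => ?_)
    have h1 : f j ^ L * (∏ l ∈ s.erase j, f l) ^ (L - K j) ∈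
        (CohB1.polyGrading n k) (L * d j + (L - K j) * ∑ l ∈ s.erase j, d l) :=
      SetLike.mul_mem_graded (by simpa using SetLike.pow_mem_graded L (hf j))
        (by simpa using SetLike.pow_mem_graded (L - K j) (prod_mem f d hf (s.erase j)))
    have h2 : (L - N) * E + i = L * d j + (L - K j) * (∑ l ∈ s.erase j, d l) + deg j := by
      have h3 := hydeg j
      have h4 : d j + ∑ l ∈ s.erase j, d l = E := Finset.add_sum_erase s d hj
      zify [hLN, hLK j hj]
      rw [h3, he, ← h4]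
      push_cast
      ring
    rw [h2]
    exact EGA73.gsmul_mem (CohB1.polyGrading n k) ℳ h1 (hym j)
  obtain ⟨c, hc⟩ := EGA73.exists_pow_smul_eq_zero_of_frac (ℳ := ℳ) hE0 hFm hD
    (fun x => EGA73.pow_notMem x.2 L) fun x => by
      have hle : Proj.basicOpen (CohB1.polyGrading n k) F ≤ TopSheaf.iU (cov f) (m + 1) := (inf_cov f s).ge
      have h := congrArg (evalAt e _ ⟨x.1, hle x.2⟩) hv
      rw [map_sum] at h
      change EGA73.frac x.1 z (F ^ N) (EGA73.pow_notMem x.2 N) = _ at h
      have hw : EGA73.frac x.1 (∑ j ∈ s, w j) (F ^ L) (EGA73.pow_notMem x.2 L) =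
          EGA73.frac x.1 z (F ^ N) (EGA73.pow_notMem x.2 N) := by
        rw [frac_sum]
        refine Eq.trans (Finset.sum_congr rfl fun j hj => ?_) h.symm
        rw [evalAt_rs]
        have hxj : (∏ l ∈ s.erase j, f l) ∉ x.1.asHomogeneousIdeal := fun hc => x.2 (by
          have h5 := x.1.asHomogeneousIdeal.toIdeal.mul_mem_left (f j) hc
          rw [Finset.mul_prod_erase s f hj] at h5
          exact h5)
        refine Eq.trans ?_ (hy j ⟨x.1, hxj⟩).symm
        refine EGA73.frac_congr ?_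
        have e1 : F ^ L = f j ^ L * (∏ l ∈ s.erase j, f l) ^ L := by
          rw [← mul_pow, Finset.mul_prod_erase s f hj]
        have e3 : (∏ l ∈ s.erase j, f l) ^ K j * (∏ l ∈ s.erase j, f l) ^ (L - K j) =
            (∏ l ∈ s.erase j, f l) ^ L := by rw [← pow_add, Nat.add_sub_cancel' (hLK j hj)]
        rw [e1]
        simp only [w, smul_smul]
        congr 1
        linear_combination (f j ^ L) * e3
      rw [EGA73.frac_eq_zero_iff]
      obtain ⟨a, ha, hae⟩ := EGA73.frac_eq_iff.1 hw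
      refine ⟨a * F ^ N, EGA73.mul_notMem ha (EGA73.pow_notMem x.2 N), ?_⟩
      show (a * F ^ N) • (F ^ (L - N) • z - ∑ j ∈ s, w j) = 0
      rw [smul_sub, smul_smul, mul_assoc, ← pow_add, Nat.add_sub_cancel' hLN, mul_smul, mul_smul,
        ← smul_sub, ← neg_sub, smul_neg, hae, neg_zero]
  refine ⟨L - N + c, ?_⟩
  rw [show ((List.range (m + 2)).map f).prod = F from prod_range_map f _,
    show N + (L - N + c) = L + c by omega]
  have hc' : F ^ (L - N + c) • z = ∑ j ∈ s, F ^ c • w j := by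
    rw [smul_sub, sub_eq_zero, smul_smul, ← pow_add, Finset.smul_sum] at hc
    rw [Nat.add_comm (L - N) c, hc]
  rw [hc']
  refine Submodule.sum_mem _ fun j hj => ?_
  have e2 : F ^ c • w j = f j ^ (L + c) • (((∏ l ∈ s.erase j, f l) ^ c *
      (∏ l ∈ s.erase j, f l) ^ (L - K j)) • y j) := by
    show F ^ c • (_ • y j) = _
    rw [hF, ← Finset.mul_prod_erase s f hj, mul_pow, smul_smul, smul_smul, pow_add]
    congr 1
    ring
  rw [e2]
  exact le_pw_map f (L + c) (ModuleCat.of (MvPolynomial (Fin (n + 1)) k) M) _ j (by simp [hs] at hj ⊢; omega) _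

end Module

end Groth.Agent.Licht93.ProjCore
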