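import Groth.Agent.Licht93.Nonproper
import Groth.Agent.Licht93.DimImage
import Groth.Agent.S0027
import Groth.Agent.QC70.PushClosed
import Groth.Agent.EGA73.AmpleBaseImmersion

/-!
# Lichtenbaum's theorem
-/

set_option autoImplicit false
set_option backward.isDefEq.respectTransparency.types false
set_option maxSynthPendingDepth 6
set_option maxHeartbeats 1000000
set_option synthInstance.maxHeartbeats 200000

universe u

open CategoryTheory CategoryTheory.Limits AlgebraicGeometry TopologicalSpace Opposite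

noncomputable section

namespace Groth.Agent.Licht93.Top

open QC70

variable {k : Type u} [Field k]

theorem dim_closedImmersion {Z X : Scheme.{u}} (i : Z ⟶ X) [IsClosedImmersion i] :
    topologicalKrullDim Z = topologicalKrullDim ↥(Set.range i) :=
  IsHomeomorph.topologicalKrullDim_eq _ i.isClosedEmbedding.isEmbedding.toHomeomorph.isHomeomorph

theorem dim_eq_nat {Z : Scheme.{u}} [IrreducibleSpace Z] (g : Z ⟶ Spec (CommRingCat.of k)) [LocallyOfFiniteType g] :
    ∃ m : ℕ, topologicalKrullDim Z = (m : WithBot ℕ∞) := ⟨_, (WC97.dim_eq g).1⟩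

theorem nat_le_of_dim {a b : ℕ} (h : (a : WithBot ℕ∞) ≤ (b : WithBot ℕ∞)) : a ≤ b := by exact_mod_cast h

/-- vanishing in degree `d` if no `d`-dimensional integral closed subscheme is proper -/
theorem subsingleton_coh {X : Scheme.{u}} (f : X ⟶ Spec (CommRingCat.of k)) [IsSeparated f]
    [LocallyOfFiniteType f] [QuasiCompact f] [Nonempty X] (d : ℕ)
    (hd : ∀ (Z : Scheme.{u}) (i : Z ⟶ X) [IsClosedImmersion i] [IsIntegral Z],
      topologicalKrullDim Z ≤ d ∧ (topologicalKrullDim Z = d → ¬ IsProper (i ≫ f)))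
    (M : X.Modules) (hM : Coh.IsCoh M) : Subsingleton (Coh.HH X M d) := by
  haveI : IsLocallyNoetherian X := LocallyOfFiniteType.isLocallyNoetherian f
  haveI : CompactSpace X := QuasiCompact.compactSpace_of_compactSpace f
  haveI : IsNoetherian X := {}
  refine S0027.result X (fun M => Subsingleton (Coh.HH X M d))
    (fun M N ⟨e⟩ h => ValVan29.subsingleton_hh_of_iso e d h)
    (fun S hS _ _ _ h₁ h₃ => ValVan29.subsingleton_hh_X₂ hS d h₁ h₃) ?_ M hM
  intro Z i hi hZ I ι hι hI
  haveI := hi; haveI := hZ; haveI := hι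
  haveI : I.IsQuasicoherent := hI
  haveI : IsLocallyNoetherian Z := LocallyOfFiniteType.isLocallyNoetherian i
  have hIc : Coh.IsCoh I := ⟨hI, by
    haveI : (Coh.structureModule Z).IsQuasicoherent := QC70.isCoh_unit.1
    haveI : (Coh.structureModule Z).IsFiniteType := QC70.isCoh_unit.2
    exact QC70.isFiniteType_of_mono ι⟩
  obtain ⟨e⟩ := Coh69.nonempty_hh_push i I d
  suffices h : Subsingleton (Coh.HH Z I d) from @Equiv.subsingleton _ _ e.symm.toEquiv h
  obtain ⟨m, hm⟩ := dim_eq_nat (i ≫ f)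
  obtain ⟨hle, hp⟩ := hd Z i
  rw [hm] at hle hp
  rcases (nat_le_of_dim hle).lt_or_eq with h | rfl
  · haveI : NoetherianSpace Z := Var76.FibreBound.noetherianSpace (i ≫ f)
    refine Var76.subsingleton_HH_of_support I isClosed_univ (fun x hx => (hx trivial).elim) (d := m) ?_ d h
    exact ((IsHomeomorph.topologicalKrullDim_eq _ (Homeomorph.Set.univ Z).isHomeomorph).trans hm).le
  · exact Nonproper.subsingleton_ideal (i ≫ f) hm (hp rfl) ι hIc

/-- proper integral schemes have top cohomology -/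
theorem exists_coh {Z : Scheme.{u}} (f : Z ⟶ Spec (CommRingCat.of k)) [IsProper f] [IsIntegral Z] (d : ℕ)
    (hd : topologicalKrullDim Z = d) : ∃ G : Z.Modules, Coh.IsCoh G ∧ ¬ Subsingleton (Coh.HH Z G d) := by
  classical
  haveI : IsLocallyNoetherian Z := LocallyOfFiniteType.isLocallyNoetherian f
  rcases d with _ | m
  · refine ⟨Coh.structureModule Z, QC70.isCoh_unit, fun h => ?_⟩
    have e : Coh.HH Z (Coh.structureModule Z) 0 ≃+ (Coh.toAb (Coh.structureModule Z)).obj.obj (op (⊤ : Z.Opens)) :=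
      (Coh69.hhEquiv _ 0).trans (SiteCoh.hu0Equiv _ _)
    have h1 : Subsingleton Γ(Z, ⊤) := e.symm.toEquiv.subsingleton
    haveI : Nonempty (⊤ : Z.Opens) := ⟨⟨genericPoint Z, trivial⟩⟩
    exact not_subsingleton Γ(Z, ⊤) h1
  obtain ⟨⟨n, U', π, Xc, i, j, W, L, hXc, hU', hi, hj, hfac, hπ, hsurj, hWne, hiso, hdimX, htdeg, -⟩⟩ :=
    ChowModel.exists_model f (m + 1) hd
  haveI := hXc; haveI := hU'; haveI := hi; haveI := hj; haveI := hπ; haveI := hiso
  haveI : IsProper (CohB1.ProjSpace.toSpec n k) := Curves2.ProjLine.isProper_toSpec k n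
  have hdimU : topologicalKrullDim U' = (m + 1 : ℕ) := by
    rw [← ChowModel.dim_opensRange j, ← hdimX]
    exact VarGal.topologicalKrullDim_open_eq (i ≫ CohB1.ProjSpace.toSpec n k) j.opensRange
      ⟨j (genericPoint U'), ⟨genericPoint U', rfl⟩⟩
  haveI : IsProper ((j ≫ i) ≫ CohB1.ProjSpace.toSpec n k) := by
    rw [Category.assoc, hfac]; infer_instance
  haveI : IsProper (j ≫ i) := IsProper.of_comp (j ≫ i) (CohB1.ProjSpace.toSpec n k)
  haveI : IsClosedImmersion (j ≫ i) :=
    EGA73.AmpleBaseImmersion.isClosedImmersion_of_isImmersion_of_isProper _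
  obtain ⟨G, hG, hns⟩ := Projective.exists_coh_not_subsingleton (j ≫ i) hdimU
  refine ⟨(Scheme.Modules.pushforward π).obj G, FlatMor67.DescFree.isCoh_pushforward π hG, fun h => hns ?_⟩
  haveI : HasInjectiveResolutions U'.Modules := Coh69.modules_hasInjectiveResolutions U'
  refine DimImage.subsingleton_source (π ≫ f) f π rfl W (fun y hy => ?_) (m + 1)
    (fun x hx => htdeg x hx) G hG ((Coh69.hhEquiv _ _).symm.toEquiv.subsingleton)
  haveI : Subsingleton ↥(π ⁻¹' {y}) := ⟨fun a b => by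
    have ha : a.1 ∈ π ⁻¹ᵁ W := show π a.1 ∈ W by rw [show π a.1 = y from a.2]; exact hy
    have hb : b.1 ∈ π ⁻¹ᵁ W := show π b.1 ∈ W by rw [show π b.1 = y from b.2]; exact hy
    have e : (⟨a.1, ha⟩ : ↥(π ⁻¹ᵁ W)) = ⟨b.1, hb⟩ := (π ∣_ W).homeomorph.injective (Subtype.ext
      ((morphismRestrict_base_coe π W ⟨a.1, ha⟩).trans (a.2.trans (b.2.symm.trans
        (morphismRestrict_base_coe π W ⟨b.1, hb⟩).symm))))
    exact Subtype.ext (congrArg (fun z : ↥(π ⁻¹ᵁ W) => z.1) e)⟩
  rw [IsHomeomorph.topologicalKrullDim_eq _ (π.fiberHomeo y).isHomeomorph]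
  haveI : Subsingleton (IrreducibleCloseds ↥(π ⁻¹' {y})) := ⟨fun a b => SetLike.ext' (by
    obtain ⟨p, hp⟩ := a.isIrreducible.nonempty
    obtain ⟨q, hq⟩ := b.isIrreducible.nonempty
    ext z
    constructor
    · intro _; exact Subsingleton.elim q z ▸ hq
    · intro _; exact Subsingleton.elim p z ▸ hp)⟩
  exact Order.krullDim_nonpos_of_subsingleton

/-- a reduced model of an irreducible scheme -/
theorem exists_reduction {Z : Scheme.{u}} [IrreducibleSpace Z] :
    ∃ (W : Scheme.{u}) (c : W ⟶ Z) (_ : IsClosedImmersion c) (_ : IsIntegral W),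
      topologicalKrullDim W = topologicalKrullDim Z := by
  obtain ⟨W, c, hc, hW, hr, -⟩ := QC70.exists_integral_closed (genericPoint Z)
  haveI := hc
  refine ⟨W, c, hc, hW, ?_⟩
  rw [dim_closedImmersion c, hr, genericPoint_spec Z]
  exact IsHomeomorph.topologicalKrullDim_eq _ (Homeomorph.Set.univ Z).isHomeomorph

theorem dim_le_of_closed {Z X : Scheme.{u}} (i : Z ⟶ X) [IsClosedImmersion i] {d : ℕ}
    (hd : topologicalKrullDim X = d) : topologicalKrullDim Z ≤ d :=
  hd ▸ (dim_closedImmersion i).le.trans (topologicalKrullDim_subspace_le X _)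

end Groth.Agent.Licht93.Top
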