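import Groth.Agent.LC16.CechFam
import Mathlib.Algebra.BigOperators.Group.List.Basic

/-!
# The top degree of the extended Cech complex

`tp fs N x` is the class `x / (∏ fs)^N`; it is a boundary exactly when `x` is eventually decomposable.
-/

set_option autoImplicit false

universe u

open CategoryTheory CategoryTheory.Limits

namespace Groth.Agent.Licht93.TopCech

open Groth.Agent.LC16.CechPairs

variable {R : Type u} [CommRing R]

/-- `Σ f^L M` over the members of the list. -/
def pw : List R → ℕ → ∀ (M : ModuleCat.{u} R), Submodule R M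
  | [], _, _ => ⊥
  | f :: fs, L, M => LinearMap.range (LinearMap.lsmul R M (f ^ L)) ⊔ pw fs L M

/-- eventually decomposable -/
def Dec (fs : List R) (M : ModuleCat.{u} R) (N : ℕ) (x : M) : Prop :=
  ∃ c : ℕ, fs.prod ^ c • x ∈ pw fs (N + c) M

theorem smul_pow_mem_pw {fs : List R} {L : ℕ} {M : ModuleCat.{u} R} (k : ℕ) {x : M}
    (hx : x ∈ pw fs L M) : fs.prod ^ k • x ∈ pw fs (L + k) M := by
  suffices h : ∀ (gs : List R) (r : R), (∀ f ∈ gs, f ^ k ∣ r) → ∀ x : M, x ∈ pw gs L M →
      r • x ∈ pw gs (L + k) M from h fs _ (fun f hf => pow_dvd_pow_of_dvd (List.dvd_prod hf) k) x hx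
  intro gs
  induction gs with
  | nil =>
    intro r _ x hx
    rw [pw, Submodule.mem_bot] at hx ⊢
    rw [hx, smul_zero]
  | cons f gs ih =>
    intro r hr x hx
    rw [pw, Submodule.mem_sup] at hx ⊢
    obtain ⟨-, ⟨m, rfl⟩, y, hy, rfl⟩ := hx
    obtain ⟨s, hs⟩ := hr f (by simp)
    refine ⟨_, ⟨s • m, rfl⟩, _, ih r (fun g hg => hr g (by simp [hg])) y hy, ?_⟩
    simp only [LinearMap.lsmul_apply, smul_add, smul_smul, hs]
    ring_nf

theorem subsingleton_X_gt (fs : List R) (M : ModuleCat.{u} R) :
    ∀ q : ℤ, (fs.length : ℤ) < q → Subsingleton ((C fs M).X q : Type u) := by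
  induction fs with
  | nil => exact fun q hq => subsingleton_nil M (by simp at hq; omega)
  | cons f fs ih =>
    intro q hq
    simp only [List.length_cons, Nat.cast_add, Nat.cast_one] at hq
    have := ih q (by omega)
    have := ih (q - 1) (by omega)
    have : Subsingleton (LocalizedModule (Submonoid.powers f) ((C fs M).X (q - 1))) :=
      ⟨fun a b => by
        induction a using LocalizedModule.induction_on with | h a s => ?_
        induction b using LocalizedModule.induction_on with | h b t => ?_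
        rw [Subsingleton.elim a 0, Subsingleton.elim b 0]; simp⟩
    exact (pairs f fs M q (q - 1) (by omega)).injective.subsingleton

/-- `f ^ N` as a denominator -/
abbrev powS (f : R) (N : ℕ) : Submonoid.powers f := ⟨f ^ N, N, rfl⟩

theorem map_mk (S : Submonoid R) {P Q : Type u} [AddCommGroup P] [Module R P] [AddCommGroup Q]
    [Module R Q] (d : P →ₗ[R] Q) (x : P) (s : S) :
    IsLocalizedModule.map S (LocalizedModule.mkLinearMap S P) (LocalizedModule.mkLinearMap S Q) d
      (LocalizedModule.mk x s) = LocalizedModule.mk (d x) s := by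
  rw [IsLocalizedModule.mk_eq_mk', IsLocalizedModule.mk_eq_mk']
  exact IsLocalizedModule.map_mk' _ _ _ _ _ _

/-- division by `f ^ N` -/
noncomputable def divPow (f : R) (N : ℕ) (P : Type u) [AddCommGroup P] [Module R P] :
    P →ₗ[R] LocalizedModule (Submonoid.powers f) P where
  toFun x := LocalizedModule.mk x (powS f N)
  map_add' x y := by
    rw [LocalizedModule.mk_add_mk, LocalizedModule.mk_eq]
    exact ⟨1, by simp only [one_smul, Submonoid.smul_def, Submonoid.coe_mul]; module⟩
  map_smul' r x := by rw [RingHom.id_apply, LocalizedModule.smul'_mk]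

/-- the class `x / (∏ fs)^N` in top degree -/
noncomputable def tp : ∀ (fs : List R) (M : ModuleCat.{u} R), ℕ → M →ₗ[R] ((C fs M).X (fs.length : ℤ))
  | [], M, _ => (nilEquiv M).symm.toLinearMap
  | f :: fs, M, N =>
    (pairs f fs M ((f :: fs).length : ℤ) (fs.length : ℤ) (by simp)).symm.toLinearMap ∘ₗ
      LinearMap.inr R _ _ ∘ₗ divPow f N _ ∘ₗ tp fs M N

theorem pairs_tp (f : R) (fs : List R) (M : ModuleCat.{u} R) (N : ℕ) (x : M) :
    pairs f fs M ((f :: fs).length : ℤ) (fs.length : ℤ) (by simp) (tp (f :: fs) M N x) =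
      (0, LocalizedModule.mk (tp fs M N x) (powS f N)) := by
  rw [tp]
  simp [divPow]

theorem tp_shift : ∀ (fs : List R) (M : ModuleCat.{u} R) (N k : ℕ) (x : M),
    tp fs M (N + k) (fs.prod ^ k • x) = tp fs M N x
  | [], M, N, k, x => by simp [tp]
  | f :: fs, M, N, k, x => by
    apply (pairs f fs M ((f :: fs).length : ℤ) (fs.length : ℤ) (by simp)).injective
    rw [pairs_tp, pairs_tp, List.prod_cons, mul_pow, mul_smul, map_smul, tp_shift fs M N k x]
    refine Prod.ext rfl ?_
    rw [LocalizedModule.mk_eq]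
    refine ⟨1, ?_⟩
    simp only [one_smul, Submonoid.smul_def, smul_smul, pow_add]

theorem exists_tp : ∀ (fs : List R) (M : ModuleCat.{u} R) (z : (C fs M).X (fs.length : ℤ)),
    ∃ (N : ℕ) (x : M), tp fs M N x = z
  | [], M, z => ⟨0, nilEquiv M z, by simp [tp]⟩
  | f :: fs, M, z => by
    let e := pairs f fs M ((f :: fs).length : ℤ) (fs.length : ℤ) (by simp)
    haveI := subsingleton_X_gt fs M ((f :: fs).length : ℤ) (by simp)
    suffices h : ∃ (N : ℕ) (x : M), LocalizedModule.mk (tp fs M N x)
        (powS f N) = (e z).2 by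
      obtain ⟨N, x, hx⟩ := h
      exact ⟨N, x, e.injective (by rw [pairs_tp]; exact Prod.ext (Subsingleton.elim _ _) hx)⟩
    generalize (e z).2 = w
    induction w using LocalizedModule.induction_on with | h a s => ?_
    obtain ⟨_, j, rfl⟩ := s
    obtain ⟨N, x, rfl⟩ := exists_tp fs M a
    refine ⟨N + j, f ^ N • fs.prod ^ j • x, ?_⟩
    rw [map_smul, tp_shift, LocalizedModule.mk_eq]
    refine ⟨1, ?_⟩
    simp only [one_smul, Submonoid.smul_def, smul_smul, pow_add]
    ring_nf

theorem dec_of_mem_range : ∀ (fs : List R) (M : ModuleCat.{u} R) (p : ℤ), p + 1 = (fs.length : ℤ) →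
    ∀ (N : ℕ) (x : M), tp fs M N x ∈ LinearMap.range ((C fs M).d p (fs.length : ℤ)).hom →
      Dec fs M N x
  | [], M, p, hp, N, x, hx => by
    obtain ⟨w, hw⟩ := hx
    simp only [List.length_nil, Nat.cast_zero] at hp
    haveI := subsingleton_X ([] : List R) M p (by omega)
    rw [Subsingleton.elim w 0, map_zero, tp, LinearEquiv.coe_coe, eq_comm,
      LinearEquiv.map_eq_zero_iff] at hw
    exact ⟨0, by simp [pw, hw]⟩
  | f :: fs, M, p, hp, N, x, ⟨w, hw⟩ => by
    obtain rfl : p = (fs.length : ℤ) := by simp at hp; omega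
    let q : ℤ := (fs.length : ℤ) - 1
    have hq : q + 1 = (fs.length : ℤ) := by omega
    have h2 := pairs_d f fs M (fs.length : ℤ) ((f :: fs).length : ℤ) q (by simp) hq w
    rw [hw, pairs_tp, Prod.mk.injEq] at h2
    obtain ⟨w', v, rfl⟩ : ∃ w' v, (pairs f fs M (fs.length : ℤ) q hq).symm (w', v) = w :=
      ⟨_, _, (pairs f fs M (fs.length : ℤ) q hq).symm_apply_apply w⟩
    rw [LinearEquiv.apply_symm_apply] at h2
    have h3 := h2.2
    clear h2 hw
    induction v using LocalizedModule.induction_on with | h u s => ?_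
    obtain ⟨_, e, rfl⟩ := s
    rw [map_mk, sub_eq_add_neg, ← LocalizedModule.mk_neg, ← LocalizedModule.mk_neg,
      LocalizedModule.mk_add_mk, LocalizedModule.mk_eq] at h3
    obtain ⟨⟨_, a, rfl⟩, ha⟩ := h3
    simp only [Submonoid.smul_def, Submonoid.coe_mul, one_smul, smul_smul, smul_add, smul_neg,
      OneMemClass.coe_one, one_mul] at ha
    obtain ⟨N', y, rfl⟩ := exists_tp fs M w'
    have hr : tp fs M (N + N') (f ^ (a + e) • fs.prod ^ N' • x + f ^ (a + e + N) • fs.prod ^ N • y) ∈
        LinearMap.range ((C fs M).d q (fs.length : ℤ)).hom := by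
      refine ⟨-(f ^ (a + N)) • u, ?_⟩
      have hy : tp fs M (N + N') (fs.prod ^ N • y) = tp fs M N' y := by
        rw [show N + N' = N' + N by omega]; exact tp_shift fs M N' N y
      rw [map_add, LinearMap.map_smul (tp fs M (N + N')) (f ^ (a + e)),
        LinearMap.map_smul (tp fs M (N + N')) (f ^ (a + e + N)), tp_shift, hy]
      simp only [map_neg, neg_smul, map_smul, pow_add]
      linear_combination (norm := module) (-1 : R) • ha
    obtain ⟨c, hc⟩ := dec_of_mem_range fs M q hq _ _ hr
    refine ⟨c + N' + (a + e), ?_⟩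
    have key := Submodule.smul_mem _ (f ^ (c + N')) (smul_pow_mem_pw (a + e) hc)
    rw [show N + (c + N' + (a + e)) = N + N' + c + (a + e) by omega] at *
    rw [pw, Submodule.mem_sup]
    refine ⟨_, ⟨-(fs.prod ^ (a + e + c + N) • y), rfl⟩, _, key, ?_⟩
    simp only [List.prod_cons, LinearMap.lsmul_apply, smul_add, smul_neg, smul_smul, mul_pow]
    module

theorem mem_range_of_mem_pw : ∀ (fs : List R) (M : ModuleCat.{u} R) (p : ℤ),
    p + 1 = (fs.length : ℤ) → ∀ (L : ℕ) (x : M), x ∈ pw fs L M →
      tp fs M L x ∈ LinearMap.range ((C fs M).d p (fs.length : ℤ)).hom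
  | [], M, p, _, L, x, hx => by
    rw [pw, Submodule.mem_bot] at hx
    rw [hx, map_zero]
    exact zero_mem _
  | f :: fs, M, p, hp, L, x, hx => by
    obtain rfl : p = (fs.length : ℤ) := by simp at hp; omega
    let q : ℤ := (fs.length : ℤ) - 1
    have hq : q + 1 = (fs.length : ℤ) := by omega
    rw [pw, Submodule.mem_sup] at hx
    obtain ⟨-, ⟨m, rfl⟩, y, hy, rfl⟩ := hx
    rw [map_add]
    refine add_mem ?_ ?_
    · haveI := subsingleton_X_gt fs M ((f :: fs).length : ℤ) (by simp)
      refine ⟨(pairs f fs M (fs.length : ℤ) q hq).symm (-(tp fs M L m), 0), ?_⟩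
      apply (pairs f fs M ((f :: fs).length : ℤ) (fs.length : ℤ) (by simp)).injective
      rw [pairs_d f fs M _ _ q (by simp) hq, LinearEquiv.apply_symm_apply, pairs_tp]
      refine Prod.ext (Subsingleton.elim _ _) ?_
      simp only [map_zero, sub_zero, LinearMap.lsmul_apply, map_smul]
      rw [← LocalizedModule.mk_neg, neg_neg, LocalizedModule.mk_eq]
      exact ⟨1, by simp only [one_smul, Submonoid.smul_def]⟩
    · obtain ⟨u, hu⟩ := mem_range_of_mem_pw fs M q hq L y hy
      refine ⟨(pairs f fs M (fs.length : ℤ) q hq).symm (0, -LocalizedModule.mk u (powS f L)), ?_⟩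
      apply (pairs f fs M ((f :: fs).length : ℤ) (fs.length : ℤ) (by simp)).injective
      rw [pairs_d f fs M _ _ q (by simp) hq, LinearEquiv.apply_symm_apply, pairs_tp]
      refine Prod.ext (map_zero _) ?_
      simp only [map_neg, LocalizedModule.zero_mk, neg_zero, zero_sub, sub_neg_eq_add, zero_add,
        neg_neg]
      rw [map_mk, hu]

theorem mem_range_of_dec (fs : List R) (M : ModuleCat.{u} R) (p : ℤ)
    (hp : p + 1 = (fs.length : ℤ)) (N : ℕ) (x : M) (h : Dec fs M N x) :
    tp fs M N x ∈ LinearMap.range ((C fs M).d p (fs.length : ℤ)).hom := by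
  obtain ⟨c, hc⟩ := h
  rw [← tp_shift fs M N c x]
  exact mem_range_of_mem_pw fs M p hp _ _ hc

variable [IsNoetherianRing R]

/-- vanishing of the top local cohomology is decomposability -/
theorem subsingleton_H_iff (fs : List R) (M : Type u) [AddCommGroup M] [Module R M] :
    Subsingleton (LocCoh.H (Ideal.span {x | x ∈ fs}) fs.length M) ↔
      ∀ (N : ℕ) (x : M), Dec fs (ModuleCat.of R M) N x := by
  obtain ⟨e⟩ := LC16.CechFam.nonempty_equiv fs fs.length M
  rw [← e.toEquiv.subsingleton_congr, ← ModuleCat.isZero_iff_subsingleton,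
    Koszul19.isZero_homology_iff_ex]
  constructor
  · intro h N x
    refine dec_of_mem_range fs (ModuleCat.of R M) ((fs.length : ℤ) - 1) (by omega) N x ?_
    haveI := subsingleton_X_gt fs (ModuleCat.of R M) ((fs.length : ℤ) + 1) (by omega)
    exact h ((fs.length : ℤ) - 1) ((fs.length : ℤ) + 1) (by omega) (by omega) _ (Subsingleton.elim _ _)
  · intro h p j hp hj z _
    obtain ⟨N, x, rfl⟩ := exists_tp fs _ z
    exact mem_range_of_dec fs _ p hp N x (h N x)

end Groth.Agent.Licht93.TopCech
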