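import Groth.Agent.Coh69.MV

/-!
# Top Cech cohomology of a finite cover with acyclic intersections

For opens `U 0, …, U m` with acyclic finite intersections, `H^m(U 0 ∪ … ∪ U m, F)` vanishes exactly when every
section over the intersection is a sum of restrictions from the intersections omitting one open.
-/

set_option autoImplicit false

universe u

open CategoryTheory Limits TopologicalSpace Opposite CategoryTheory.Abelian

namespace Groth.Agent.Licht93.TopSheaf

open Groth.Agent.Coh69 (HE)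

variable {X : TopCat.{u}} (F : Sheaf (Opens.grothendieckTopology X) AddCommGrpCat.{u})

/-- the free map attached to an inclusion -/
noncomputable abbrev fm {A B : Opens X} (h : B ≤ A) :
    CohCx.freeSheaf (Opens.grothendieckTopology X) B ⟶ CohCx.freeSheaf (Opens.grothendieckTopology X) A :=
  CohCx.freeSheafMap (Opens.grothendieckTopology X) (homOfLE h)

theorem fm_comp {A B D : Opens X} (h₁ : B ≤ A) (h₂ : D ≤ B) : fm h₂ ≫ fm h₁ = fm (h₂.trans h₁) := by
  rw [← Functor.map_comp, ← Functor.whiskerRight_comp, ← Functor.map_comp]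
  rfl

theorem fm_self {A : Opens X} (h : A ≤ A) : fm h = 𝟙 (CohCx.freeSheaf (Opens.grothendieckTopology X) A) := by
  show (presheafToSheaf _ _).map (Functor.whiskerRight (yoneda.map (𝟙 A)) _) = _
  rw [CategoryTheory.Functor.map_id, Functor.whiskerRight_id', CategoryTheory.Functor.map_id]

/-- restriction -/
noncomputable def res (n : ℕ) {A B : Opens X} (h : B ≤ A) : HE F n A →+ HE F n B :=
  (Ext.mk₀ (fm h)).precomp F (zero_add n)

theorem res_apply (n : ℕ) {A B : Opens X} (h : B ≤ A) (x : HE F n A) :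
    res F n h x = (Ext.mk₀ (fm h)).comp x (zero_add n) := rfl

theorem res_res (n : ℕ) {A B D : Opens X} (h₁ : B ≤ A) (h₂ : D ≤ B) (x : HE F n A) :
    res F n h₂ (res F n h₁ x) = res F n (h₂.trans h₁) x := by
  simp only [res_apply]
  rw [Ext.mk₀_comp_mk₀_assoc, fm_comp]

theorem res_self (n : ℕ) {A : Opens X} (h : A ≤ A) (x : HE F n A) : res F n h x = x := by
  rw [res_apply, fm_self, Ext.mk₀_id_comp]

theorem res_bijective (n : ℕ) {A B : Opens X} (h : B ≤ A) (h' : A ≤ B) :
    Function.Bijective (res F n h) :=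
  Function.bijective_iff_has_inverse.2 ⟨res F n h', fun x => by rw [res_res, res_self],
    fun x => by rw [res_res, res_self]⟩

/-- restriction of sections -/
noncomputable def rs {A B : Opens X} (h : B ≤ A) : F.obj.obj (op A) →+ F.obj.obj (op B) :=
  (F.obj.map (homOfLE h).op).hom

theorem rs_rs {A B D : Opens X} (h₁ : B ≤ A) (h₂ : D ≤ B) (s : F.obj.obj (op A)) :
    rs F h₂ (rs F h₁ s) = rs F (h₂.trans h₁) s := by
  show (F.obj.map (homOfLE h₂).op).hom ((F.obj.map (homOfLE h₁).op).hom s) = _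
  rw [← AddCommGrpCat.comp_apply, ← F.obj.map_comp]
  rfl

theorem rs_self {A : Opens X} (h : A ≤ A) (s : F.obj.obj (op A)) : rs F h s = s := by
  show (F.obj.map (homOfLE h).op).hom s = s
  rw [show (homOfLE h).op = 𝟙 (op A) from Subsingleton.elim _ _, F.obj.map_id]
  rfl

/-- sections as classes -/
noncomputable def e0 (A : Opens X) : F.obj.obj (op A) ≃+ HE F 0 A := (SiteCoh.hu0Equiv F A).symm

theorem res_e0 {A B : Opens X} (h : B ≤ A) (s : F.obj.obj (op A)) :
    res F 0 h (e0 F A s) = e0 F B (rs F h s) :=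
  SiteCoh.mk₀_comp_hu0Equiv_symm F (homOfLE h) s

local notation "fsh" => CohCx.freeSheaf (Opens.grothendieckTopology X)

/-- the Mayer-Vietoris sequence of sheaves -/
noncomputable abbrev mvSC (A B : Opens X) : ShortComplex (Sheaf (Opens.grothendieckTopology X) AddCommGrpCat.{u}) :=
  ShortComplex.mk (X₁ := fsh (A ⊓ B)) (X₂ := fsh A ⊞ fsh B) (X₃ := fsh (A ⊔ B))
    (biprod.lift (fm (inf_le_left : A ⊓ B ≤ A)) (-fm (inf_le_right : A ⊓ B ≤ B)))
    (biprod.desc (fm (le_sup_left : A ≤ A ⊔ B)) (fm (le_sup_right : B ≤ A ⊔ B))) (by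
      rw [biprod.lift_desc, Preadditive.neg_comp, fm_comp, fm_comp]
      exact add_neg_cancel _)

set_option backward.isDefEq.respectTransparency false in
theorem mvSC_shortExact (A B : Opens X) : (mvSC A B).ShortExact :=
  (Opens.mayerVietorisSquare A B).shortComplex_shortExact

/-- the connecting map -/
noncomputable def δ (n : ℕ) (A B : Opens X) : HE F n (A ⊓ B) →+ HE F (n + 1) (A ⊔ B) :=
  (mvSC_shortExact A B).extClass.precomp F (add_comm 1 n)

theorem δ_apply (n : ℕ) (A B : Opens X) (x : HE F n (A ⊓ B)) :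
    δ F n A B x = (mvSC_shortExact A B).extClass.comp x (add_comm 1 n) := rfl

/-- maps of Mayer-Vietoris sequences -/
noncomputable def mvMap {A B A' B' : Opens X} (hA : A' ≤ A) (hB : B' ≤ B) :
    mvSC A' B' ⟶ mvSC A B where
  τ₁ := fm (inf_le_inf hA hB)
  τ₂ := biprod.map (fm hA) (fm hB)
  τ₃ := fm (sup_le_sup hA hB)
  comm₁₂ := by
    apply biprod.hom_ext
    · simp only [Category.assoc, biprod.map_fst, biprod.lift_fst, biprod.lift_fst_assoc, fm_comp]
    · simp only [Category.assoc, biprod.map_snd, biprod.lift_snd, biprod.lift_snd_assoc,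
        Preadditive.comp_neg, Preadditive.neg_comp, fm_comp]
  comm₂₃ := by
    apply biprod.hom_ext'
    · simp only [biprod.inl_map_assoc, biprod.inl_desc, biprod.inl_desc_assoc, fm_comp]
    · simp only [biprod.inr_map_assoc, biprod.inr_desc, biprod.inr_desc_assoc, fm_comp]

theorem res_δ (n : ℕ) {A B A' B' : Opens X} (hA : A' ≤ A) (hB : B' ≤ B) (x : HE F n (A ⊓ B)) :
    res F (n + 1) (sup_le_sup hA hB) (δ F n A B x) = δ F n A' B' (res F n (inf_le_inf hA hB) x) := by
  simp only [res_apply, δ_apply]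
  have h := ShortComplex.ShortExact.extClass_naturality (mvSC_shortExact A' B') (mvSC_shortExact A B)
    (mvMap hA hB)
  rw [← Ext.comp_assoc (a₁₂ := 1) _ _ _ (zero_add 1) (add_comm 1 n) (by omega),
    show (Ext.mk₀ (fm (sup_le_sup hA hB))) = Ext.mk₀ (mvMap hA hB).τ₃ from rfl, ← h]
  exact Ext.comp_assoc _ _ _ (add_zero 1) (zero_add n) (by omega)

theorem exists_δ (n : ℕ) (A B : Opens X) (y : HE F (n + 1) (A ⊔ B))
    (hA : res F (n + 1) le_sup_left y = 0) (hB : res F (n + 1) le_sup_right y = 0) :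
    ∃ x, δ F n A B x = y := by
  refine Ext.contravariant_sequence_exact₃ (mvSC_shortExact A B) F y ?_ (add_comm 1 n)
  apply (Ext.biprodAddEquiv (X₁ := (CohCx.freeSheaf (Opens.grothendieckTopology X) A))
    (X₂ := (CohCx.freeSheaf (Opens.grothendieckTopology X) B)) (Y := F) (n := n + 1)).injective
  rw [map_zero]
  refine Prod.ext ?_ ?_
  · show (Ext.mk₀ biprod.inl).comp ((Ext.mk₀ (mvSC A B).g).comp y (zero_add _)) (zero_add _) = 0
    rw [Ext.mk₀_comp_mk₀_assoc]
    refine Eq.trans ?_ hA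
    rw [res_apply]
    congr 2
    exact biprod.inl_desc _ _
  · show (Ext.mk₀ biprod.inr).comp ((Ext.mk₀ (mvSC A B).g).comp y (zero_add _)) (zero_add _) = 0
    rw [Ext.mk₀_comp_mk₀_assoc]
    refine Eq.trans ?_ hB
    rw [res_apply]
    congr 2
    exact biprod.inr_desc _ _

theorem exists_of_δ_eq_zero (n : ℕ) (A B : Opens X) (x : HE F n (A ⊓ B)) (h : δ F n A B x = 0) :
    ∃ (a : HE F n A) (b : HE F n B), res F n inf_le_left a - res F n inf_le_right b = x := by
  obtain ⟨w, hw⟩ := Ext.contravariant_sequence_exact₁ (mvSC_shortExact A B) F x (add_comm 1 n) h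
  refine ⟨(Ext.mk₀ biprod.inl).comp w (zero_add n), (Ext.mk₀ biprod.inr).comp w (zero_add n), ?_⟩
  rw [← hw, res_apply, res_apply, Ext.mk₀_comp_mk₀_assoc, Ext.mk₀_comp_mk₀_assoc,
    sub_eq_add_neg, ← Ext.neg_comp, ← Ext.mk₀_neg, ← Ext.add_comp, ← Ext.mk₀_add]
  congr 2
  apply biprod.hom_ext <;> simp [mvSC] <;> rfl

theorem δ_res_left (n : ℕ) (A B : Opens X) (a : HE F n A) :
    δ F n A B (res F n inf_le_left a) = 0 := by
  rw [δ_apply, res_apply]
  have h : fm (inf_le_left : A ⊓ B ≤ A) = (mvSC A B).f ≫ biprod.fst := (biprod.lift_fst _ _).symm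
  rw [h, ← Ext.mk₀_comp_mk₀_assoc]
  exact ShortComplex.ShortExact.extClass_comp_assoc (mvSC_shortExact A B) _

theorem δ_res_right (n : ℕ) (A B : Opens X) (b : HE F n B) :
    δ F n A B (res F n inf_le_right b) = 0 := by
  have h : fm (inf_le_right : A ⊓ B ≤ B) = -((mvSC A B).f ≫ biprod.snd) := by
    show _ = -(biprod.lift _ (-_) ≫ biprod.snd)
    rw [biprod.lift_snd, neg_neg]
  rw [δ_apply, res_apply, h, Ext.mk₀_neg, Ext.neg_comp, Ext.comp_neg, ← Ext.mk₀_comp_mk₀_assoc,
    neg_eq_zero]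
  exact ShortComplex.ShortExact.extClass_comp_assoc (mvSC_shortExact A B) _

variable (U : ℕ → Opens X)

/-- `U 0 ⊔ … ⊔ U m` -/
def sU (U : ℕ → Opens X) : ℕ → Opens X
  | 0 => U 0
  | m + 1 => sU U m ⊔ U (m + 1)

/-- the cover cut by its member `m + 1` -/
abbrev cut (U : ℕ → Opens X) (m : ℕ) : ℕ → Opens X := fun j => U j ⊓ U (m + 1)

theorem sU_mono {U V : ℕ → Opens X} (h : ∀ j, U j ≤ V j) : ∀ m, sU U m ≤ sU V m
  | 0 => h 0
  | m + 1 => sup_le_sup (sU_mono h m) (h _)

theorem sU_inf (U : ℕ → Opens X) (W : Opens X) : ∀ m, sU U m ⊓ W = sU (fun j => U j ⊓ W) m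
  | 0 => rfl
  | m + 1 => by rw [sU, sU, inf_sup_right, sU_inf U W m]

theorem cut_inf (U : ℕ → Opens X) (m : ℕ) (s : Finset ℕ) (hs : s.Nonempty) :
    s.inf (cut U m) = (insert (m + 1) s).inf U := by
  classical
  induction hs using Finset.Nonempty.cons_induction with
  | singleton a => simp [cut, inf_comm]
  | cons a t ha _ ih =>
    rw [Finset.cons_eq_insert, Finset.inf_insert, ih, Finset.insert_comm, Finset.inf_insert (b := a),
      Finset.inf_insert (b := m + 1)]
    show U a ⊓ U (m + 1) ⊓ _ = _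
    rw [inf_assoc, ← inf_assoc (U (m + 1)), inf_idem]

theorem range_eq (m : ℕ) : Finset.range (m + 1 + 1) = insert (m + 1) (Finset.range (m + 1)) :=
  Finset.range_add_one

/-- the intersection of all -/
abbrev iU (U : ℕ → Opens X) (m : ℕ) : Opens X := (Finset.range (m + 1)).inf U

theorem iU_cut (U : ℕ → Opens X) (m : ℕ) : iU (cut U m) m = iU U (m + 1) := by
  rw [iU, iU, cut_inf U m _ ⟨0, by simp⟩, range_eq]

/-- the class of a section over the intersection -/
noncomputable def φ : ∀ (m : ℕ) (U : ℕ → Opens X), F.obj.obj (op (iU U m)) →+ HE F m (sU U m)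
  | 0, U => (e0 F (U 0)).toAddMonoidHom.comp (rs F (by simp [iU]))
  | m + 1, U => (δ F m (sU U m) (U (m + 1))).comp
      ((res F m (sU_inf U (U (m + 1)) m).le).comp
        ((φ m (cut U m)).comp (rs F (iU_cut U m).le)))

theorem φ_zero (U : ℕ → Opens X) (t : F.obj.obj (op (iU U 0))) (h : U 0 ≤ iU U 0) :
    φ F 0 U t = e0 F (U 0) (rs F h t) := rfl

theorem φ_succ (m : ℕ) (U : ℕ → Opens X) (t : F.obj.obj (op (iU U (m + 1)))) :
    φ F (m + 1) U t = δ F m (sU U m) (U (m + 1))
      (res F m (sU_inf U (U (m + 1)) m).le (φ F m (cut U m) (rs F (iU_cut U m).le t))) := rfl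

theorem φ_nat : ∀ (m : ℕ) (U V : ℕ → Opens X) (h : ∀ j, V j ≤ U j) (hi : iU V m ≤ iU U m)
    (t : F.obj.obj (op (iU U m))), res F m (sU_mono h m) (φ F m U t) = φ F m V (rs F hi t)
  | 0, U, V, h, hi, t => by
    rw [φ_zero F U t (by simp [iU]), φ_zero F V _ (by simp [iU]), rs_rs]
    exact (res_e0 F (h 0) _).trans (congrArg _ (rs_rs F _ _ t))
  | m + 1, U, V, h, hi, t => by
    rw [φ_succ, φ_succ]
    refine (res_δ F m (sU_mono h m) (h (m + 1)) _).trans (congrArg _ ?_)
    have hc : iU (cut V m) m ≤ iU (cut U m) m := (iU_cut V m).trans_le (hi.trans (iU_cut U m).ge)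
    have e := φ_nat m (cut U m) (cut V m) (fun j => inf_le_inf (h j) (h (m + 1))) hc
      (rs F (iU_cut U m).le t)
    rw [rs_rs] at e
    rw [rs_rs, ← e, res_res, res_res]

theorem rs_bijective {A B : Opens X} (h : B ≤ A) (h' : A ≤ B) : Function.Bijective (rs F h) :=
  Function.bijective_iff_has_inverse.2 ⟨rs F h', fun x => by rw [rs_rs, rs_self],
    fun x => by rw [rs_rs, rs_self]⟩

/-- acyclic intersections -/
def Good (U : ℕ → Opens X) (m : ℕ) : Prop :=
  ∀ s : Finset ℕ, s ⊆ Finset.range (m + 1) → s.Nonempty → ∀ k, Subsingleton (HE F (k + 1) (s.inf U))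

theorem Good.left {U : ℕ → Opens X} {m : ℕ} (h : Good F U (m + 1)) : Good F U m :=
  fun s hs hne => h s (hs.trans (Finset.range_mono (by omega))) hne

theorem Good.cut {U : ℕ → Opens X} {m : ℕ} (h : Good F U (m + 1)) : Good F (cut U m) m := by
  intro s hs hne k
  rw [cut_inf U m s hne]
  refine h _ ?_ (Finset.insert_nonempty _ _) k
  rw [range_eq]
  exact Finset.insert_subset_insert _ hs

theorem Good.last {U : ℕ → Opens X} {m : ℕ} (h : Good F U (m + 1)) (k : ℕ) :
    Subsingleton (HE F (k + 1) (U (m + 1))) := by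
  have := h {m + 1} (by simp) (Finset.singleton_nonempty _) k
  rwa [Finset.inf_singleton] at this

theorem vanish_above : ∀ (m : ℕ) (U : ℕ → Opens X), Good F U m → ∀ k, m ≤ k →
    Subsingleton (HE F (k + 1) (sU U m))
  | 0, U, h, k, _ => by
    have := h {0} (by simp) (Finset.singleton_nonempty _) k
    rwa [Finset.inf_singleton] at this
  | m + 1, U, h, k, hk => by
    refine Coh69.subsingleton_HE_sup F (sU U m) (U (m + 1)) k ?_ (vanish_above m U h.left k (by omega))
      (h.last F k)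
    rw [sU_inf]
    obtain ⟨k', rfl⟩ : ∃ k', k = k' + 1 := ⟨k - 1, by omega⟩
    exact vanish_above m (cut U m) (h.cut F) k' (by omega)

theorem φ_surjective : ∀ (m : ℕ) (U : ℕ → Opens X), Good F U m → Function.Surjective (φ F m U)
  | 0, U, _, y => by
    obtain ⟨s, rfl⟩ := (e0 F (U 0)).surjective y
    refine ⟨rs F (by simp [iU]) s, ?_⟩
    rw [φ_zero F U _ (by simp [iU]), rs_rs, rs_self]
  | m + 1, U, h, y => by
    haveI := vanish_above F m U (h.left F) m le_rfl
    haveI := h.last F m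
    obtain ⟨x, rfl⟩ := exists_δ F m (sU U m) (U (m + 1)) y (Subsingleton.elim _ _) (Subsingleton.elim _ _)
    obtain ⟨z, rfl⟩ := (res_bijective F m (sU_inf U (U (m + 1)) m).le (sU_inf U (U (m + 1)) m).ge).2 x
    obtain ⟨t', rfl⟩ := φ_surjective m (cut U m) (h.cut F) z
    refine ⟨rs F (iU_cut U m).ge t', ?_⟩
    rw [φ_succ, rs_rs, rs_self]

/-- the intersection omitting `j` -/
abbrev oU (U : ℕ → Opens X) (m j : ℕ) : Opens X := ((Finset.range (m + 1)).erase j).inf U

theorem oU_le (U : ℕ → Opens X) (m j : ℕ) : iU U m ≤ oU U m j :=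
  Finset.inf_mono (Finset.erase_subset _ _)

theorem oU_last (U : ℕ → Opens X) (m : ℕ) : oU U (m + 1) (m + 1) = iU U m := by
  rw [oU, range_eq, Finset.erase_insert (by simp)]

theorem oU_cut (U : ℕ → Opens X) (m j : ℕ) (hm : 1 ≤ m) (hj : j ≠ m + 1) :
    oU (cut U m) m j = oU U (m + 1) j := by
  have hne : ((Finset.range (m + 1)).erase j).Nonempty := by
    rcases eq_or_ne j 0 with rfl | h
    · exact ⟨1, Finset.mem_erase.2 ⟨one_ne_zero, by simp; omega⟩⟩
    · exact ⟨0, Finset.mem_erase.2 ⟨fun e => h e.symm, by simp⟩⟩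
  rw [oU, cut_inf U m _ hne, oU, range_eq, Finset.erase_insert_of_ne (fun e => hj e.symm)]

theorem oU_one (U : ℕ → Opens X) : oU U 1 0 = U 1 := by
  rw [oU, show (Finset.range (1 + 1)).erase 0 = {1} from by decide, Finset.inf_singleton]

theorem iU_zero (U : ℕ → Opens X) : iU U 0 = U 0 := by simp [iU]

/-- sum of restrictions -/
def Decomp (U : ℕ → Opens X) (m : ℕ) (t : F.obj.obj (op (iU U m))) : Prop :=
  ∃ v : ∀ j : ℕ, F.obj.obj (op (oU U m j)), t = ∑ j ∈ Finset.range (m + 1), rs F (oU_le U m j) (v j)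

theorem inf_le_iU_one (U : ℕ → Opens X) : sU U 0 ⊓ U 1 ≤ iU U 1 :=
  Finset.le_inf fun j hj => by
    rcases (show j = 0 ∨ j = 1 by simp at hj; omega) with rfl | rfl
    exacts [inf_le_left, inf_le_right]

theorem φ_one (U : ℕ → Opens X) (t : F.obj.obj (op (iU U 1))) :
    φ F 1 U t = δ F 0 (sU U 0) (U 1) (e0 F (sU U 0 ⊓ U 1) (rs F (inf_le_iU_one U) t)) := by
  refine (φ_succ F 0 U t).trans (congrArg _ ?_)
  exact ((res_e0 F _ _).trans (congrArg _ ((rs_rs F _ _ _).trans (rs_rs F _ _ _))))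

theorem φ_rs_eq_zero : ∀ (m : ℕ) (U : ℕ → Opens X) (j : ℕ), j ≤ m + 1 →
    ∀ v : F.obj.obj (op (oU U (m + 1) j)), φ F (m + 1) U (rs F (oU_le U (m + 1) j) v) = 0 := by
  intro m
  induction m with
  | zero =>
    intro U j hj v
    rw [φ_one, rs_rs]
    rcases Nat.lt_or_eq_of_le hj with hlt | rfl
    · obtain rfl : j = 0 := by omega
      refine Eq.trans (congrArg _ ?_) (δ_res_right F 0 (sU U 0) (U 1) (e0 F (U 1) (rs F (oU_one U).ge v)))
      exact ((res_e0 F _ _).trans (congrArg _ (rs_rs F _ _ _))).symm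
    · have hb : U 0 ≤ oU U 1 1 := ((iU_zero U).ge).trans (oU_last U 0).ge
      refine Eq.trans (congrArg _ ?_) (δ_res_left F 0 (sU U 0) (U 1) (e0 F (U 0) (rs F hb v)))
      exact ((res_e0 F _ _).trans (congrArg _ (rs_rs F _ _ _))).symm
  | succ m ih =>
    intro U j hj v
    rw [φ_succ, rs_rs]
    rcases Nat.lt_or_eq_of_le hj with hlt | rfl
    · have e := ih (cut U (m + 1)) j (by omega) (rs F (oU_cut U (m + 1) j (by omega) (by omega)).le v)
      rw [rs_rs] at e
      erw [e, map_zero, map_zero]; rfl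
    · have e := φ_nat F (m + 1) U (cut U (m + 1)) (fun j => inf_le_left)
        (Finset.inf_mono_fun fun j _ => inf_le_left) (rs F (oU_last U (m + 1)).ge v)
      rw [rs_rs] at e
      rw [← e, res_res]
      exact δ_res_left F (m + 1) _ _ _

theorem decomp_of_φ_eq_zero : ∀ (m : ℕ) (U : ℕ → Opens X), Good F U (m + 1) →
    ∀ t : F.obj.obj (op (iU U (m + 1))), φ F (m + 1) U t = 0 → Decomp F U (m + 1) t := by
  classical
  intro m
  induction m with
  | zero =>
    intro U h t ht
    obtain ⟨a, b, hab⟩ := exists_of_δ_eq_zero F 0 _ _ _ ((φ_one F U t).symm.trans ht)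
    obtain ⟨a, rfl⟩ := (e0 F (sU U 0)).surjective a
    obtain ⟨b, rfl⟩ := (e0 F (U 1)).surjective b
    rw [res_e0, res_e0, ← map_sub] at hab
    have h1 := (e0 F _).injective hab
    have hle : iU U 1 ≤ sU U 0 ⊓ U 1 := le_inf (Finset.inf_le (by simp)) (Finset.inf_le (by simp))
    have h2 := congrArg (rs F hle) h1
    rw [map_sub, rs_rs, rs_rs, rs_rs, rs_self] at h2
    have hv : ∀ j : ℕ, j = 0 → oU U 1 j ≤ U 1 := fun j e => by subst e; exact (oU_one U).le
    have hw : ∀ j : ℕ, j = 1 → oU U 1 j ≤ sU U 0 := fun j e => by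
      subst e; exact ((oU_last U 0).trans (iU_zero U)).le
    refine ⟨fun j => if hj : j = 0 then -rs F (hv j hj) b else if hj' : j = 1 then rs F (hw j hj') a else 0, ?_⟩
    simp only [Nat.reduceAdd, Finset.sum_range_succ, Finset.sum_range_zero, zero_add, ↓reduceDIte,
      Nat.one_ne_zero, map_neg, rs_rs]
    rw [← h2]
    abel
  | succ m ih =>
    intro U h t ht
    obtain ⟨a, b, hab⟩ := exists_of_δ_eq_zero F (m + 1) _ _ _ ((φ_succ F (m + 1) U t).symm.trans ht)
    haveI := h.last F m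
    rw [Subsingleton.elim b 0, map_zero, sub_zero] at hab
    obtain ⟨s, rfl⟩ := φ_surjective F (m + 1) U (h.left F) a
    have e := φ_nat F (m + 1) U (cut U (m + 1)) (fun j => inf_le_left)
      (Finset.inf_mono_fun fun j _ => inf_le_left) s
    have hz : φ F (m + 1) (cut U (m + 1)) (rs F (iU_cut U (m + 1)).le t -
        rs F (Finset.inf_mono_fun fun j _ => inf_le_left) s) = 0 := by
      apply (res_bijective F (m + 1) (sU_inf U (U (m + 2)) (m + 1)).le (sU_inf U (U (m + 2)) (m + 1)).ge).1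
      rw [map_zero, map_sub, map_sub, ← hab, ← e, res_res]
      exact sub_self _
    obtain ⟨w, hw⟩ := ih (cut U (m + 1)) (h.cut F) _ hz
    have hv : ∀ j : ℕ, j = m + 2 → oU U (m + 1 + 1) j ≤ iU U (m + 1) := fun j e => e ▸ (oU_last U (m + 1)).le
    refine ⟨fun j => if hj : j = m + 2 then rs F (hv j hj) s
      else rs F (oU_cut U (m + 1) j (by omega) hj).ge (w j), ?_⟩
    rw [Finset.sum_range_succ]
    simp only [↓reduceDIte]
    rw [rs_rs]
    have h2 := congrArg (rs F (iU_cut U (m + 1)).ge) hw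
    rw [map_sub, rs_rs, rs_self, rs_rs, map_sum] at h2
    rw [← sub_eq_iff_eq_add]
    refine h2.trans (Finset.sum_congr rfl fun j hj => ?_)
    have hne : j ≠ m + 2 := by simp at hj; omega
    rw [dif_neg hne, rs_rs, rs_rs]

/-- **Top cohomology vanishes iff every section decomposes.** -/
theorem subsingleton_iff (m : ℕ) (U : ℕ → Opens X) (h : Good F U (m + 1)) :
    Subsingleton (HE F (m + 1) (sU U (m + 1))) ↔ ∀ t, Decomp F U (m + 1) t := by
  constructor
  · exact fun hs t => decomp_of_φ_eq_zero F m U h t (Subsingleton.elim _ _)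
  · intro hd
    refine subsingleton_of_forall_eq 0 fun y => ?_
    obtain ⟨t, rfl⟩ := φ_surjective F (m + 1) U h y
    obtain ⟨v, rfl⟩ := hd t
    rw [map_sum]
    exact Finset.sum_eq_zero fun j hj => φ_rs_eq_zero F m U j (by simp at hj; omega) (v j)

end Groth.Agent.Licht93.TopSheaf
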