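import Groth.Agent.Licht93.IdealTwist
import Groth.Agent.RB70.RelSerre
import Groth.Agent.RB70.AffBase
import Groth.Agent.FMK72.Acyclic
import Groth.Agent.FormalLC27.OpenCoh
import Groth.Agent.MP99.Basic

/-!
# Twisted powers of an ideal from the target of a proper morphism
-/

set_option autoImplicit false
set_option backward.isDefEq.respectTransparency.types false
set_option maxSynthPendingDepth 6
set_option maxHeartbeats 1000000
set_option synthInstance.maxHeartbeats 200000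

universe u

open CategoryTheory CategoryTheory.Limits AlgebraicGeometry TopologicalSpace Opposite

noncomputable section

namespace Groth.Agent.Licht93.TwistPush

open QC70

variable {X Y : Scheme.{u}}

/-- the ideal of the trace on an open -/
theorem ideal_comap_ι (W : X.Opens) (𝔟 : X.IdealSheafData) (V : W.toScheme.affineOpens) :
    (𝔟.comap W.ι).ideal V = 𝔟.ideal ⟨W.ι ''ᵁ V.1, V.2.image_of_isOpenImmersion W.ι⟩ := by
  rw [Scheme.IdealSheafData.ideal_comap_of_isOpenImmersion, Scheme.Opens.ι_appIso]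
  exact Ideal.comap_id _

theorem isQuasicoherent_restr (W : X.Opens) (M : X.Modules) [M.IsQuasicoherent] : (M.restrict W.ι).IsQuasicoherent :=
  haveI := QCPull72.isQuasicoherent_pullback W.ι M
  QC70.isQuasicoherent_of_iso ((Scheme.Modules.restrictFunctorIsoPullback W.ι).app M).symm inferInstance

theorem rsmul (W : X.Opens) (M : X.Modules) (U : W.toScheme.Opens) (r : Γ(W.toScheme, U))
    (x : Γ(M.restrict W.ι, U)) :
    (show Γ(M, W.ι ''ᵁ U) from r • x) = (show Γ(X, W.ι ''ᵁ U) from r) • (show Γ(M, W.ι ''ᵁ U) from x) :=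
  Coh69.restrict_smul W M U r x

theorem comap_ι_pow (W : X.Opens) (𝔟 : X.IdealSheafData) (b : ℕ) :
    (𝔟 ^ b).comap W.ι = (𝔟.comap W.ι) ^ b := by
  refine Scheme.IdealSheafData.ext (funext fun V => ?_)
  rw [ideal_comap_ι, Scheme.IdealSheafData.ideal_pow, Scheme.IdealSheafData.ideal_pow, Pi.pow_apply, Pi.pow_apply,
    ideal_comap_ι]
  rfl

/-- restricting `𝔟 • M` to an open -/
theorem exists_restrict_iso (W : X.Opens) (𝔟 : X.IdealSheafData) (M : X.Modules) [M.IsQuasicoherent] :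
    ∃ e : ((Dual3.idealMul 𝔟).obj M).restrict W.ι ≅ (Dual3.idealMul (𝔟.comap W.ι)).obj (M.restrict W.ι),
      e.hom ≫ Dual3.idealMulι (𝔟.comap W.ι) (M.restrict W.ι) =
        (Scheme.Modules.restrictFunctor W.ι).map (Dual3.idealMulι 𝔟 M) := by
  haveI : (M.restrict W.ι).IsQuasicoherent := isQuasicoherent_restr W M
  haveI := QC70.isQuasicoherent_idealMul 𝔟 M
  haveI : (((Dual3.idealMul 𝔟).obj M).restrict W.ι).IsQuasicoherent := isQuasicoherent_restr W _
  haveI := QC70.isQuasicoherent_idealMul (𝔟.comap W.ι) (M.restrict W.ι)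
  haveI : Mono ((Scheme.Modules.restrictFunctor W.ι).map (Dual3.idealMulι 𝔟 M)) :=
    QC70.mono_of_app_injective _ fun V => QC70.app_injective_of_mono (Dual3.idealMulι 𝔟 M) (W.ι ''ᵁ V)
  let U : W.toScheme.affineOpens → W.toScheme.Opens := fun V => V.1
  have hcov : ⨆ V, U V = ⊤ := iSup_affineOpens_eq_top W.toScheme
  have hmem : ∀ (V : W.toScheme.affineOpens) (x : Γ(M.restrict W.ι, V.1)),
      x ∈ (𝔟.comap W.ι).ideal V • (⊤ : Submodule Γ(W.toScheme, V.1) Γ(M.restrict W.ι, V.1)) ↔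
      (show Γ(M, W.ι ''ᵁ V.1) from x) ∈ 𝔟.ideal ⟨W.ι ''ᵁ V.1, V.2.image_of_isOpenImmersion W.ι⟩ •
        (⊤ : Submodule Γ(X, W.ι ''ᵁ V.1) Γ(M, W.ι ''ᵁ V.1)) := by
    intro V x
    have hI := ideal_comap_ι W 𝔟 V
    constructor
    · intro hx
      refine Submodule.smul_induction_on (p := fun z : Γ(M.restrict W.ι, V.1) =>
        (show Γ(M, W.ι ''ᵁ V.1) from z) ∈ 𝔟.ideal ⟨W.ι ''ᵁ V.1, V.2.image_of_isOpenImmersion W.ι⟩ •
          (⊤ : Submodule Γ(X, W.ι ''ᵁ V.1) Γ(M, W.ι ''ᵁ V.1))) hx (fun a ha m _ => ?_) fun u v hu hv => add_mem hu hv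
      rw [rsmul]
      exact Submodule.smul_mem_smul (hI.le ha) trivial
    · intro hx
      refine Submodule.smul_induction_on hx (fun a ha m _ => ?_) fun u v hu hv => add_mem hu hv
      erw [← rsmul W M V.1 a m]
      exact Submodule.smul_mem_smul (hI.ge ha) trivial
  obtain ⟨φ, hφ⟩ := QC70.exists_lift_of_mono ((Scheme.Modules.restrictFunctor W.ι).map (Dual3.idealMulι 𝔟 M))
    (Dual3.idealMulι (𝔟.comap W.ι) (M.restrict W.ι)) U hcov (fun V => V.2)
    (fun V => QC70.isLocAt_of_isQuasicoherent _ V.2) fun V x =>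
      (QC70.mem_idealMul_iff _ _ V _).2 ((hmem V _).2
        ((QC70.mem_idealMul_iff 𝔟 M ⟨_, V.2.image_of_isOpenImmersion W.ι⟩ _).1 ⟨x, rfl⟩))
  obtain ⟨ψ, hψ⟩ := QC70.exists_lift_of_mono (Dual3.idealMulι (𝔟.comap W.ι) (M.restrict W.ι))
    ((Scheme.Modules.restrictFunctor W.ι).map (Dual3.idealMulι 𝔟 M)) U hcov (fun V => V.2)
    (fun V => QC70.isLocAt_of_isQuasicoherent _ V.2) fun V x =>
      (QC70.mem_idealMul_iff 𝔟 M ⟨_, V.2.image_of_isOpenImmersion W.ι⟩ _).2
        ((hmem V _).1 ((QC70.mem_idealMul_iff _ _ V _).1 ⟨x, rfl⟩))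
  exact ⟨⟨φ, ψ, by rw [← cancel_mono ((Scheme.Modules.restrictFunctor W.ι).map (Dual3.idealMulι 𝔟 M)),
      Category.assoc, hψ, hφ, Category.id_comp],
    by rw [← cancel_mono (Dual3.idealMulι (𝔟.comap W.ι) (M.restrict W.ι)),
      Category.assoc, hφ, hψ, Category.id_comp]⟩, hφ⟩

variable (π : X ⟶ Y) [IsProper π] [AlgebraicGeometry.IsNoetherian Y] (J : Y.IdealSheafData)

/-- the ideal on the preimage of an affine open comes from the base -/
theorem ideal_pre {W : Y.Opens} (hW : IsAffineOpen W) (V : (π ⁻¹ᵁ W).toScheme.affineOpens) :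
    letI : (π ⁻¹ᵁ W).toScheme.Over (Spec (CommRingCat.of Γ(Y, W))) := ⟨RB70.affBase π hW⟩
    ((J.comap π).comap (π ⁻¹ᵁ W).ι).ideal V =
      (J.ideal ⟨W, hW⟩).map (FF71.rA Γ(Y, W) (π ⁻¹ᵁ W).toScheme V.1) := by
  letI : (π ⁻¹ᵁ W).toScheme.Over (Spec (CommRingCat.of Γ(Y, W))) := ⟨RB70.affBase π hW⟩
  have e : (π ⁻¹ᵁ W).ι ''ᵁ V.1 ≤ π ⁻¹ᵁ W := (π ⁻¹ᵁ W).ι_image_le _
  rw [ideal_comap_ι, MP99.ideal_comap J π ⟨W, hW⟩ ⟨_, V.2.image_of_isOpenImmersion _⟩ e]
  congr 1
  refine RingHom.ext fun a => ?_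
  show (π.appLE W _ e).hom a = ((π ⁻¹ᵁ W).toScheme.presheaf.map (homOfLE le_top).op).hom
    (Coh.toGlobal (RB70.affBase π hW) a)
  rw [RB70.toGlobal_affBase]
  show _ = (X.presheaf.map _).hom ((X.presheaf.map _).hom (π.app W a))
  rw [← CommRingCat.comp_apply, ← X.presheaf.map_comp]
  rfl

/-- `(π⁻¹J)^b M ⊗ L^a` -/
abbrev G (M L : X.Modules) (a b : ℕ) : X.Modules :=
  CohB1.tensorMod ((Dual3.idealMul ((J.comap π) ^ b)).obj M) (CohB1.tensorPow L a)

/-- **Uniform relative vanishing.** -/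
theorem exists_vanishing {L : X.Modules} (hL : RelAmple.IsRelAmple π L) {M : X.Modules} (hM : Coh.IsCoh M) :
    ∃ a : ℕ, ∀ (b q : ℕ) (V : Y.Opens), IsAffineOpen V →
      Subsingleton (Coh69.HE (Coh.toAb (G π J M L a b)) (q + 1) (π ⁻¹ᵁ V)) := by
  classical
  haveI : IsLocallyNoetherian X := LocallyOfFiniteType.isLocallyNoetherian π
  haveI : CompactSpace X := QuasiCompact.compactSpace_of_compactSpace π
  haveI := hM.1
  haveI := hM.2
  have hLinv := Amp73.isInvertible_of_isRelAmple hL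
  have key : ∀ V : Y.affineOpens, ∃ N : ℕ, ∀ a, N ≤ a → ∀ b q : ℕ, 1 ≤ q → Subsingleton
      (Coh.HH (π ⁻¹ᵁ V.1).toScheme ((G π J M L a b).restrict (π ⁻¹ᵁ V.1).ι) q) := by
    intro V
    haveI : IsNoetherianRing Γ(Y, V.1) := IsLocallyNoetherian.component_noetherian V
    letI : (π ⁻¹ᵁ V.1).toScheme.Over (Spec (CommRingCat.of Γ(Y, V.1))) := ⟨RB70.affBase π V.2⟩
    haveI : IsProper ((π ⁻¹ᵁ V.1).toScheme ↘ Spec (CommRingCat.of Γ(Y, V.1))) :=
      inferInstanceAs (IsProper ((π ∣_ V.1) ≫ V.2.isoSpec.hom))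
    obtain ⟨N, hN⟩ := IdealTwist.exists_vanishing (J.ideal V) ((J.comap π).comap (π ⁻¹ᵁ V.1).ι)
      (ideal_pre π J V.2) (hL.2 V) (Amp73.isCoh_restrict hM (π ⁻¹ᵁ V.1))
    refine ⟨N, fun a ha b q hq => ?_⟩
    obtain ⟨e, -⟩ := exists_restrict_iso (π ⁻¹ᵁ V.1) ((J.comap π) ^ b) M
    have h := hN a ha b q hq
    dsimp only [IdealTwist.K] at h
    rw [← comap_ι_pow] at h
    exact ValVan29.subsingleton_hh_of_iso
      (EGA73.tensIso e.symm (Amp73.powRestrict (π ⁻¹ᵁ V.1).ι L a) ≪≫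
        EGA73.tensorRestrictIso (π ⁻¹ᵁ V.1).ι ((Dual3.idealMul ((J.comap π) ^ b)).obj M)
          (CohB1.tensorPow L a)) q h
  choose N hN using key
  let C := Y.affineCover.finiteSubcover
  let U : C.I₀ → Y.affineOpens := fun j => ⟨_, isAffineOpen_opensRange (C.f j)⟩
  refine ⟨Finset.univ.sup fun j => N (U j), fun b q V hV => ?_⟩
  set a := Finset.univ.sup fun j => N (U j)
  haveI : (G π J M L a b).IsQuasicoherent :=
    (Amp73.isCoh_tensorMod (⟨QC70.isQuasicoherent_idealMul _ _, QC70.isFiniteType_idealMul _ _⟩ :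
      Coh.IsCoh ((Dual3.idealMul ((J.comap π) ^ b)).obj M))
      (Amp73.isCoh_of_isInvertible (EGA73.isInvertible_tensorPow hLinv a))).1
  haveI := Coh69.isQuasicoherent_rpush π (G π J M L a b) (q + 1)
  have hz : IsZero ((Coh.Rpush π (q + 1)).obj (G π J M L a b)) := by
    refine RB70.isZero_of_subsingleton_cover U (fun y => ?_) _ fun j => ?_
    · obtain ⟨j, z, hz⟩ := C.exists_eq y
      exact ⟨j, ⟨z, hz⟩⟩
    · obtain ⟨e, -⟩ := Mum71.exists_rpush_equiv π (G π J M L a b) (U j).2 (q + 1)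
      haveI := hN (U j) a (Finset.le_sup (f := fun j => N (U j)) (Finset.mem_univ j)) b (q + 1) (by omega)
      exact e.toEquiv.subsingleton
  obtain ⟨e, -⟩ := Mum71.exists_rpush_equiv π (G π J M L a b) hV (q + 1)
  haveI : Subsingleton Γ((Coh.Rpush π (q + 1)).obj (G π J M L a b), V) := subsingleton_of_forall_eq 0 fun s =>
    congr($(congrArg (fun φ => Scheme.Modules.Hom.app φ V) ((IsZero.iff_id_eq_zero _).1 hz)) s)
  haveI := e.symm.toEquiv.subsingleton
  obtain ⟨e', -⟩ := FormalLC27.exists_openH (π ⁻¹ᵁ V) (q + 1) (π ⁻¹ᵁ V).ι_image_top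
  exact (e' (G π J M L a b)).toEquiv.subsingleton

/-- **Direct images** of high powers are small. -/
theorem exists_push_lift {M : X.Modules} (hM : Coh.IsCoh M) (m : ℕ) :
    ∃ b₀, ∀ b, b₀ ≤ b → ∃ ψ : (Scheme.Modules.pushforward π).obj ((Dual3.idealMul ((J.comap π) ^ b)).obj M) ⟶
        (Dual3.idealMul (J ^ m)).obj ((Scheme.Modules.pushforward π).obj M),
      ψ ≫ Dual3.idealMulι (J ^ m) ((Scheme.Modules.pushforward π).obj M) =
        (Scheme.Modules.pushforward π).map (Dual3.idealMulι ((J.comap π) ^ b) M) := by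
  classical
  haveI : IsLocallyNoetherian X := LocallyOfFiniteType.isLocallyNoetherian π
  haveI := hM.1
  haveI := hM.2
  haveI : ((Scheme.Modules.pushforward π).obj M).IsQuasicoherent := QCqs72.isQuasicoherent_pushforward (M := M) π
  have key : ∀ V : Y.affineOpens, ∃ b₀, ∀ b, b₀ ≤ b →
      ∀ x : Γ((Dual3.idealMul ((J.comap π) ^ b)).obj M, π ⁻¹ᵁ V.1),
        (show Γ((Scheme.Modules.pushforward π).obj M, V.1) from
          (Dual3.idealMulι ((J.comap π) ^ b) M).app (π ⁻¹ᵁ V.1) x) ∈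
          (J ^ m).ideal V • (⊤ : Submodule Γ(Y, V.1) Γ((Scheme.Modules.pushforward π).obj M, V.1)) := by
    intro V
    haveI : IsNoetherianRing Γ(Y, V.1) := IsLocallyNoetherian.component_noetherian V
    letI : (π ⁻¹ᵁ V.1).toScheme.Over (Spec (CommRingCat.of Γ(Y, V.1))) := ⟨RB70.affBase π V.2⟩
    haveI : IsProper ((π ⁻¹ᵁ V.1).toScheme ↘ Spec (CommRingCat.of Γ(Y, V.1))) :=
      inferInstanceAs (IsProper ((π ∣_ V.1) ≫ V.2.isoSpec.hom))
    let W := π ⁻¹ᵁ V.1
    haveI : (M.restrict W.ι).IsQuasicoherent := isQuasicoherent_restr W M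
    obtain ⟨b₀, hb₀⟩ := IdealTwist.exists_mem_smul (J.ideal V) ((J.comap π).comap W.ι)
      (ideal_pre π J V.2) (Amp73.isCoh_restrict hM W) m
    refine ⟨b₀, fun b hb x => ?_⟩
    obtain ⟨e, he⟩ := exists_restrict_iso W ((J.comap π) ^ b) M
    let y : Γ((Dual3.idealMul ((J.comap π) ^ b)).obj M, W.ι ''ᵁ ⊤) := res _ W.ι_image_top.le x
    have h := hb₀ b hb
    dsimp only [IdealTwist.K] at h
    rw [← comap_ι_pow] at h
    have h1 := h (e.hom.app ⊤ y)
    have e1 : (Dual3.idealMulι (((J.comap π) ^ b).comap W.ι) (M.restrict W.ι)).app ⊤ (e.hom.app ⊤ y) =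
        (show Γ(M.restrict W.ι, ⊤) from (Dual3.idealMulι ((J.comap π) ^ b) M).app (W.ι ''ᵁ ⊤) y) :=
      congr($(congrArg (fun φ => Scheme.Modules.Hom.app φ ⊤) he) y)
    rw [e1] at h1
    have main : ∀ z : Γ(M.restrict W.ι, ⊤), z ∈ ((J.ideal V) ^ m).map (Serre71.globalA Γ(Y, V.1) W.toScheme) •
        (⊤ : Submodule Γ(W.toScheme, ⊤) Γ(M.restrict W.ι, ⊤)) →
        (show Γ((Scheme.Modules.pushforward π).obj M, V.1) from
          res M W.ι_image_top.ge (show Γ(M, W.ι ''ᵁ ⊤) from z)) ∈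
          (J ^ m).ideal V • (⊤ : Submodule Γ(Y, V.1) Γ((Scheme.Modules.pushforward π).obj M, V.1)) := by
      intro z hz
      refine Submodule.smul_induction_on (p := fun z : Γ(M.restrict W.ι, ⊤) =>
        (show Γ((Scheme.Modules.pushforward π).obj M, V.1) from
          res M W.ι_image_top.ge (show Γ(M, W.ι ''ᵁ ⊤) from z)) ∈
          (J ^ m).ideal V • (⊤ : Submodule Γ(Y, V.1) Γ((Scheme.Modules.pushforward π).obj M, V.1))) hz
        (fun c hc w _ => ?_) fun u v hu hv => ?_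
      · rw [Ideal.map] at hc
        induction hc using Submodule.span_induction generalizing w with
        | mem c hc =>
          obtain ⟨a, ha, rfl⟩ := hc
          have ha' : a ∈ (J ^ m).ideal V := by rw [Scheme.IdealSheafData.ideal_pow, Pi.pow_apply]; exact ha
          have key : (show Γ((Scheme.Modules.pushforward π).obj M, V.1) from res M W.ι_image_top.ge
              (show Γ(M, W.ι ''ᵁ ⊤) from Serre71.globalA Γ(Y, V.1) W.toScheme a • w)) =
              a • (show Γ((Scheme.Modules.pushforward π).obj M, V.1) from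
                res M W.ι_image_top.ge (show Γ(M, W.ι ''ᵁ ⊤) from w)) := by
            refine Eq.trans ?_ (QCqs72.pushforward_smul M π a _).symm
            erw [rsmul]
            erw [QC70.res_smul]
            refine congrArg (fun c : Γ(X, π ⁻¹ᵁ V.1) =>
              c • QC70.res M W.ι_image_top.ge (show Γ(M, W.ι ''ᵁ ⊤) from w)) ?_
            rw [show Serre71.globalA Γ(Y, V.1) W.toScheme a = Coh69.gRes W (π.app V.1 a) from
              RB70.toGlobal_affBase π V.2 a]
            exact (QC70.resO_resO W.ι_image_top.le W.ι_image_top.ge (π.app V.1 a)).trans (QC70.resO_self _)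
          rw [key]
          exact Submodule.smul_mem_smul ha' trivial
        | zero =>
          rw [zero_smul]
          show QC70.res M W.ι_image_top.ge 0 ∈ _
          rw [QC70.res_zero]
          exact Submodule.zero_mem _
        | add c d _ _ hc hd =>
          rw [add_smul]
          convert add_mem (hc w trivial) (hd w trivial)
          exact map_add (M.presheaf.map _).hom _ _
        | smul t c _ hc =>
          rw [smul_eq_mul, mul_comm, mul_smul]
          exact hc _ trivial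
      · convert add_mem hu hv
        exact map_add (M.presheaf.map _).hom _ _
    have := main _ h1
    rw [← QC70.app_res, QC70.res_res, QC70.res_self] at this
    exact this
  choose b₀ hb₀ using key
  let C := Y.affineCover.finiteSubcover
  let U : C.I₀ → Y.affineOpens := fun j => ⟨_, isAffineOpen_opensRange (C.f j)⟩
  refine ⟨Finset.univ.sup fun j => b₀ (U j), fun b hb => ?_⟩
  haveI : ((Dual3.idealMul ((J.comap π) ^ b)).obj M).IsQuasicoherent := QC70.isQuasicoherent_idealMul _ _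
  haveI : ((Scheme.Modules.pushforward π).obj ((Dual3.idealMul ((J.comap π) ^ b)).obj M)).IsQuasicoherent :=
    QCqs72.isQuasicoherent_pushforward (M := (Dual3.idealMul ((J.comap π) ^ b)).obj M) π
  refine QC70.exists_lift_of_mono _ _ (fun j => (U j).1) (eq_top_iff.2 fun y _ => ?_) (fun j => (U j).2)
    (fun j => QC70.isLocAt_of_isQuasicoherent _ (U j).2) fun j x => ?_
  · obtain ⟨j, z, hz⟩ := C.exists_eq y
    exact Opens.mem_iSup.2 ⟨j, ⟨z, hz⟩⟩
  · exact (QC70.mem_idealMul_iff _ _ (U j) _).2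
      (hb₀ (U j) b ((Finset.le_sup (f := fun j => b₀ (U j)) (Finset.mem_univ j)).trans hb) x)

end Groth.Agent.Licht93.TwistPush
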